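import Cfsg.Agent.Lib.ThreeTransp.Indep.Types
import Cfsg.Agent.Lib.Sporadic.FischerNeighbourhood
import Cfsg.Agent.Lib.Sporadic.FischerOddCore
import Cfsg.Agent.S0293

/-!
# Standing facts for a group of type M(24)

The neighbourhood group has central cores: a non-central odd core would make the group the
symmetric group of degree five, and a non-central 2-core would make the class thick, in which case
the common neighbours of a non-commuting pair cannot map onto the symmetric group of degree three.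
-/

set_option autoImplicit false
set_option linter.unusedSectionVars false
set_option linter.style.haveILetI false

namespace CfsgLib.ThreeTransp.TypeTwentyFour

open CfsgLib.Sporadic FischerTransitivity Relation Indep

variable {G : Type*} [Group G] {D : Set G}

/-- In the symmetric group of degree three two commuting involutions are equal. -/
theorem perm_three_eq : ∀ s t : Equiv.Perm (Fin 3),
    s * s = 1 → t * t = 1 → s * t = t * s → s ≠ 1 → t ≠ 1 → s = t := by decide

/-- A set connected both by commuting and by non-commuting steps generates no group with a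
quotient of order six. -/
theorem no_perm_three (hG : Cfsg.IsThreeTranspositionGroup D) {M : Set G} (hM : M ⊆ D)
    (hne : M.Nonempty) (hc : ∀ a ∈ M, ∀ b ∈ M, ReflTransGen (CRel M) a b)
    (hn : ∀ a ∈ M, ∀ b ∈ M, ReflTransGen (Rel M) a b)
    (f : ↥(Subgroup.closure M) →* Equiv.Perm (Fin 3)) : ¬ Function.Surjective f := by
  intro hf
  obtain ⟨a₀, ha₀⟩ := hne
  let el : ∀ {a : G}, a ∈ M → ↥(Subgroup.closure M) := fun {a} h => ⟨a, Subgroup.subset_closure h⟩
  have hsq : ∀ {a : G} (h : a ∈ M), f (el h) * f (el h) = 1 := fun {a} h => by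
    rw [← map_mul, ← map_one f]; exact congrArg f (Subtype.ext (sq hG (hM h)))
  have hbr : ∀ {a b : G} (h : a ∈ M) (h' : b ∈ M), ¬ Commute a b → f (el h) = 1 → f (el h') = 1 := by
    intro a b h h' hab e
    have h1 : (el h * el h' * el h) = (el h' * el h * el h') :=
      Subtype.ext (CfsgLib.ThreeTransp.Basic.braid hG.1 (hM h) (hM h') hab)
    have h2 := congrArg f h1
    rw [map_mul, map_mul, map_mul, map_mul, e, one_mul, mul_one] at h2
    rw [hsq h'] at h2
    exact h2
  have hnt : ∀ {a : G} (h : a ∈ M), f (el h) ≠ 1 := by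
    intro a h e
    have hall : ∀ b, ReflTransGen (Rel M) a b → ∃ hb : b ∈ M, f (el hb) = 1 := by
      intro b hb
      induction hb with
      | refl => exact ⟨h, e⟩
      | tail _ hpq ih => obtain ⟨hp, ep⟩ := ih; exact ⟨hpq.2.1, hbr hp hpq.2.1 hpq.2.2 ep⟩
    have hker : ∀ g : ↥(Subgroup.closure M), f g = 1 := by
      rintro ⟨g, hg⟩
      induction hg using Subgroup.closure_induction with
      | mem z hz => obtain ⟨hz', e'⟩ := hall z (hn a h z hz); exact e'
      | one => exact map_one f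
      | mul x y hx hy e1 e2 =>
        rw [show (⟨x * y, mul_mem hx hy⟩ : ↥(Subgroup.closure M)) = ⟨x, hx⟩ * ⟨y, hy⟩ from rfl,
          map_mul, e1, e2, one_mul]
      | inv x hx e1 =>
        rw [show (⟨x⁻¹, inv_mem hx⟩ : ↥(Subgroup.closure M)) = ⟨x, hx⟩⁻¹ from rfl, map_inv, e1,
          inv_one]
    obtain ⟨g, hg⟩ := hf (Equiv.swap 0 1)
    rw [hker g] at hg
    exact absurd hg (by decide)
  have hsame : ∀ b, ReflTransGen (CRel M) a₀ b → ∃ hb : b ∈ M, f (el hb) = f (el ha₀) := by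
    intro b hb
    induction hb with
    | refl => exact ⟨ha₀, rfl⟩
    | tail _ hpq ih =>
      obtain ⟨hp, ep⟩ := ih
      refine ⟨hpq.2.1, (perm_three_eq _ _ (hsq hpq.2.1) (hsq hp) ?_ (hnt hpq.2.1) (hnt hp)).trans ep⟩
      rw [← map_mul, ← map_mul]
      exact congrArg f (Subtype.ext hpq.2.2.symm.eq)
  set t := f (el ha₀) with ht
  have hrange : ∀ g : ↥(Subgroup.closure M), f g = 1 ∨ f g = t := by
    rintro ⟨g, hg⟩
    induction hg using Subgroup.closure_induction with
    | mem z hz => obtain ⟨hz', e'⟩ := hsame z (hc a₀ ha₀ z hz); exact Or.inr e'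
    | one => exact Or.inl (map_one f)
    | mul x y hx hy e1 e2 =>
      rw [show (⟨x * y, mul_mem hx hy⟩ : ↥(Subgroup.closure M)) = ⟨x, hx⟩ * ⟨y, hy⟩ from rfl,
        map_mul]
      rcases e1 with e1 | e1 <;> rcases e2 with e2 | e2 <;> rw [e1, e2]
      · exact Or.inl (one_mul _)
      · exact Or.inr (one_mul _)
      · exact Or.inr (mul_one _)
      · exact Or.inl (hsq ha₀)
    | inv x hx e1 =>
      rw [show (⟨x⁻¹, inv_mem hx⟩ : ↥(Subgroup.closure M)) = ⟨x, hx⟩⁻¹ from rfl, map_inv]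
      rcases e1 with e1 | e1 <;> rw [e1]
      · exact Or.inl inv_one
      · exact Or.inr (inv_eq_of_mul_eq_one_right (hsq ha₀))
  have h01 : Equiv.swap (0 : Fin 3) 1 = t := by
    obtain ⟨g, hg⟩ := hf (Equiv.swap 0 1)
    rcases hrange g with e | e
    · rw [e] at hg; exact absurd hg (by decide)
    · rw [← hg, e]
  have h02 : Equiv.swap (0 : Fin 3) 2 = t := by
    obtain ⟨g, hg⟩ := hf (Equiv.swap 0 2)
    rcases hrange g with e | e
    · rw [e] at hg; exact absurd hg (by decide)
    · rw [← hg, e]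
  exact absurd (h01.trans h02.symm) (by decide)

open FischerLines in
/-- In a thick class the common neighbours of a non-commuting pair are connected both ways when
they generate a non-solvable group. -/
theorem thick_connected [Finite G] (h : Thick D) {d c : G} (hd : d ∈ D) (hc : c ∈ D)
    (hdc : ¬ Commute d c) (hns : ¬ Group.IsSolvable ↥(Subgroup.closure (Nb D d ∩ Nb D c))) :
    (∀ a ∈ Nb D d ∩ Nb D c, ∀ b ∈ Nb D d ∩ Nb D c,
        ReflTransGen (CRel (Nb D d ∩ Nb D c)) a b) ∧
      ∀ a ∈ Nb D d ∩ Nb D c, ∀ b ∈ Nb D d ∩ Nb D c,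
        ReflTransGen (Rel (Nb D d ∩ Nb D c)) a b := by
  set M := Nb D d ∩ Nb D c with hM
  have hG := h.grp
  have hMD : M ⊆ D := fun z hz => hz.1.1
  have hconj : ∀ s ∈ M, ∀ t ∈ M, s * t * s⁻¹ ∈ M := by
    rintro s ⟨hs1, hs2⟩ t ⟨ht1, ht2⟩
    have h1 := nb_conj hG s ht1
    have h2 := nb_conj hG s ht2
    rw [hs1.2.2.symm.eq, mul_assoc, mul_inv_cancel, mul_one] at h1
    rw [hs2.2.2.symm.eq, mul_assoc, mul_inv_cancel, mul_one] at h2
    exact ⟨h1, h2⟩
  have hex : ∀ x ∈ M, ∃ e ∈ M, e ≠ x ∧ Commute x e := fun x hx =>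
    exists_commuting_in hG hMD hconj hns hx
  -- a line through two members stays inside
  have hline : ∀ a ∈ M, ∀ a' ∈ Nb D a, a' ∈ M → ∀ z ∈ Ln D a a', z ∈ M := by
    intro a ha a' ha' ha'M z hz
    have hzd : Commute z d := commute_all hG h ha.1.1 ha' (self_mem_ln ha.1.1) (right_mem_ln ha')
      ha'.2.1.symm hd ha.1.2.2.symm ha'M.1.2.2.symm hz
    have hzc : Commute z c := commute_all hG h ha.1.1 ha' (self_mem_ln ha.1.1) (right_mem_ln ha')
      ha'.2.1.symm hc ha.2.2.2.symm ha'M.2.2.2.symm hz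
    exact ⟨⟨hz.1, fun e => hdc (e ▸ hzc), hzd.symm⟩, hz.1, fun e => hdc (e ▸ hzd).symm, hzc.symm⟩
  constructor
  · intro a ha b hb
    by_cases hab : Commute a b
    · exact ReflTransGen.single ⟨ha, hb, hab⟩
    obtain ⟨a', ha'M, hne, hca⟩ := hex a ha
    have ha' : a' ∈ Nb D a := ⟨ha'M.1.1, hne, hca⟩
    obtain ⟨z, hz, hzb⟩ := exists_hit hG h ha.1.1 ha' hb.1.1
    have hzM := hline a ha a' ha' ha'M z hz
    have hza : Commute a z := by
      rcases hz.2 with e | e
      · exact e ▸ Commute.refl a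
      · exact e.1
    exact (ReflTransGen.single (show CRel M a z from ⟨ha, hzM, hza⟩)).tail ⟨hzM, hb, hzb⟩
  · have hnc : ∀ x ∈ M, ∃ x' ∈ M, ¬ Commute x x' := by
      intro x hx
      obtain ⟨e, he, hne, -⟩ := hex x hx
      obtain ⟨u, hu, hxu⟩ : ∃ u ∈ Nb D d, ¬ Commute x u := by
        rcases (connected hG h.cls h.perf h.central hd hx.1 he.1).cases_head with e' | ⟨u, hu, -⟩
        · exact absurd e'.symm hne
        · exact ⟨u, hu.2.1, hu.2.2⟩
      obtain ⟨z, hz, hzc⟩ := exists_hit hG h hd hu hc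
      have hzd : z ≠ d := fun e' => hdc (e' ▸ hzc)
      have hzN : z ∈ Nb D d := nb_of_ln hG hz hzd
      refine ⟨z, ⟨hzN, hzN.1, fun e' => hdc (e' ▸ hzN.2.2), hzc.symm⟩, fun hxz => hxu ?_⟩
      exact (commute_all hG h hd hu hz (self_mem_ln hd) hzd hx.1.1 hxz.symm hx.1.2.2
        (right_mem_ln hu)).symm
    intro a ha b hb
    by_cases hab : Commute a b
    swap
    · exact ReflTransGen.single ⟨ha, hb, hab⟩
    by_cases e : a = b
    · exact e ▸ ReflTransGen.refl
    obtain ⟨a', ha', haa'⟩ := hnc a ha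
    by_cases hab' : Commute a' b
    swap
    · exact (ReflTransGen.single (show Rel M a a' from ⟨ha, ha', haa'⟩)).tail ⟨ha', hb, hab'⟩
    obtain ⟨b', hb', hbb'⟩ := hnc b hb
    by_cases hb'a : Commute b' a
    swap
    · exact (ReflTransGen.single (show Rel M a b' from ⟨ha, hb', fun h => hb'a h.symm⟩)).tail
        ⟨hb', hb, fun h => hbb' h.symm⟩
    by_cases hb'a' : Commute a' b'
    swap
    · exact ((ReflTransGen.single (show Rel M a a' from ⟨ha, ha', haa'⟩)).tail
        ⟨ha', hb', hb'a'⟩).tail ⟨hb', hb, fun h => hbb' h.symm⟩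
    -- the third point of the line through `a, b`
    have hbN : b ∈ Nb D a := ⟨hb.1.1, Ne.symm e, hab⟩
    obtain ⟨t, ht, hta, htb⟩ := exists_third hG h ha.1.1 hbN
    have htM := hline a ha b hbN hb t ht
    have h1 : ¬ Commute a' t := fun hc' => haa' (commute_all hG h ha.1.1 hbN ht (right_mem_ln hbN)
      htb ha'.1.1 hc'.symm hab'.symm (self_mem_ln ha.1.1))
    have h2 : ¬ Commute t b' := fun hc' => hbb' (commute_all hG h ha.1.1 hbN ht (self_mem_ln ha.1.1)
      hta hb'.1.1 hc' hb'a.symm (right_mem_ln hbN))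
    exact (((ReflTransGen.single (show Rel M a a' from ⟨ha, ha', haa'⟩)).tail ⟨ha', htM, h1⟩).tail
      ⟨htM, hb', h2⟩).tail ⟨hb', hb, fun h => hbb' h.symm⟩

/-- The order of the orthogonal section. -/
theorem card_pomega :
    Nat.card (Cfsg.POmega (ZMod 3) (Cfsg.quadFormPlus 4 (ZMod 3))) = 4952179814400 := by
  have h := Cfsg.Agent.S0293.result (F := ZMod 3) (q := 3) (by simp) 4 (le_refl 4)
  simp only [Finset.prod_range_succ, Finset.prod_range_zero] at h
  norm_num at h
  omega

/-- The type gives a non-commuting pair whose common neighbours generate a non-solvable group with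
a quotient of degree three, and whose order is a multiple of six times that of the orthogonal
section. -/
theorem pair_facts [Finite G] (h24 : Cfsg.IsOfTypeM24 G D) :
    ∃ d ∈ D, ∃ c ∈ D, ¬ Commute d c ∧ Cfsg.IsOfTypeM23 (NQ D d) (ND D d) ∧
      ¬ Group.IsSolvable ↥(Subgroup.closure (Nb D d ∩ Nb D c)) ∧
      29713078886400 ∣ Nat.card ↥(Subgroup.closure (Nb D d ∩ Nb D c)) ∧
      ∃ f : ↥(Subgroup.closure (Nb D d ∩ Nb D c)) →* Equiv.Perm (Fin 3), Function.Surjective f := by
  obtain ⟨-, d, hd, c, hc, hdc, h23, N, hN, ⟨eN⟩, ⟨eq⟩⟩ := h24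
  refine ⟨d, hd, c, hc, hdc, h23, ?_, ?_, ?_⟩
  · refine not_solvable_of_quot fun hs => not_solvable_pomega ?_
    haveI : Group.IsSolvable ↥N :=
      @Group.isSolvable_of_isSolvable_injective _ _ _ _ N.subtype N.subtype_injective hs
    exact Group.isSolvable_of_surjective (f := eN.toMonoidHom) eN.surjective
  · refine dvd_trans ?_ (Subgroup.card_quotient_dvd_card
      (Subgroup.center ↥(Subgroup.closure (Nb D d ∩ Nb D c))))
    refine dvd_of_eq (Eq.symm ?_)
    refine (Subgroup.card_eq_card_quotient_mul_card_subgroup N).trans ?_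
    rw [Nat.card_congr eq.toEquiv, Nat.card_congr eN.toEquiv, card_pomega, Nat.card_perm,
      Nat.card_fin]
    decide
  · exact ⟨eq.toMonoidHom.comp ((QuotientGroup.mk' N).comp
        (QuotientGroup.mk' (Subgroup.center ↥(Subgroup.closure (Nb D d ∩ Nb D c))))),
      eq.surjective.comp ((QuotientGroup.mk'_surjective N).comp (QuotientGroup.mk'_surjective _))⟩

/-- In type M(24) the neighbourhood groups have central cores. -/
theorem cores [Finite G] (h : Indep.Good D) (h24 : Cfsg.IsOfTypeM24 G D)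
    (hrad : ∀ N : Subgroup G, N.Normal → Group.IsSolvable ↥N → N = ⊥) :
    ∃ d₀ ∈ D, Cfsg.pCore 2 ↥(NH D d₀) ≤ Subgroup.center ↥(NH D d₀) ∧
      Cfsg.pCore 3 ↥(NH D d₀) ≤ Subgroup.center ↥(NH D d₀) := by
  obtain ⟨d, hd, c, hc, hdc, -, hns, hcard, f, hf⟩ := pair_facts h24
  refine ⟨d, hd, ?_, ?_⟩
  · by_contra h2
    have hT := FischerNeighbourhood.thick_of_pCore h.grp h.cls h.perf hrad hd h2
    obtain ⟨h1, h1'⟩ := thick_connected hT hd hc hdc hns
    refine no_perm_three h.grp (fun z hz => hz.1.1) ?_ h1 h1' f hf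
    by_contra he
    rw [Set.not_nonempty_iff_eq_empty] at he
    rw [he, Subgroup.closure_empty] at hns
    exact hns inferInstance
  · haveI := Fact.mk Nat.prime_three
    refine le_trans ?_ (show Cfsg.oddCore ↥(NH D d) ≤ Subgroup.center ↥(NH D d) from ?_)
    · refine CfsgLib.Involution.ZStar.le_oddCore (CfsgLib.Solvable.Cores.pCore_normal 3) ?_
      obtain ⟨k, hk⟩ := IsPGroup.iff_card.1
        (CfsgLib.Solvable.Cores.isPGroup_pCore (G := ↥(NH D d)) 3)
      rw [hk]
      exact (by decide : Odd 3).pow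
    · by_contra h3
      obtain ⟨e⟩ := FischerOddCore.nonempty_perm_five h.grp h.cls h.perf h.central hd h3
      have h1 := (hcard.trans (Subgroup.card_subgroup_dvd_card _))
      rw [Nat.card_congr e.toEquiv, Nat.card_perm, Nat.card_fin] at h1
      exact absurd h1 (by decide)

/-- No solvable normal subgroup. -/
theorem rad_eq_bot [Finite G] (hG : Cfsg.IsThreeTranspositionGroup D)
    (hprim : Cfsg.IsPrimitiveUnderConj D) (hw : ∃ a ∈ D, ∃ b ∈ D, a ≠ b ∧ Commute a b)
    (hZ : Subgroup.center G = ⊥) :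
    ∀ N : Subgroup G, N.Normal → Group.IsSolvable ↥N → N = ⊥ := fun N hN hs => by
  obtain ⟨h2, h3, -⟩ := FischerPrimitive.of_primitive hG hprim hw
  exact eq_bot_iff.2 (hZ ▸ FischerCores.solvable_normal_le_center hG h2 h3 N hN hs)

/-- The hypotheses of the statements give the standing facts of the group and its neighbourhood
group. -/
theorem setup [Finite G] (hG : Cfsg.IsThreeTranspositionGroup D)
    (hprim : Cfsg.IsPrimitiveUnderConj D) (h24 : Cfsg.IsOfTypeM24 G D) :
    Indep.Good D ∧ Indep.Ind D 6 ∧ (∀ x ∈ D, SepAt D x) ∧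
      ∃ d ∈ D, ∃ c ∈ D, ¬ Commute d c ∧
        Cfsg.IsThreeTranspositionGroup (ND D d) ∧ Indep.Good (ND D d) ∧
        Cfsg.IsPrimitiveUnderConj (ND D d) ∧ Cfsg.IsOfTypeM23 (NQ D d) (ND D d) ∧
        29713078886400 ∣ Nat.card ↥(Subgroup.closure (Nb D d ∩ Nb D c)) := by
  have h := good_m24_top hG hprim h24
  obtain ⟨-, p, hp, -, -, -, ⟨-, u, hu, -⟩, -⟩ := id h24
  obtain ⟨a, ha, -⟩ := exists_nimg hu
  have hrad := rad_eq_bot hG hprim (exists_pair hp ha) h.centre
  obtain ⟨d₀, hd₀, h2, h3⟩ := cores h h24 hrad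
  refine ⟨h, m24_ind h hd₀ h2 h3 h24, ?_⟩
  obtain ⟨d, hd, c, hc, hdc, h23, hns, hcard, -⟩ := pair_facts h24
  obtain ⟨hZ, p', hp', q', hq', hpq, -⟩ := id h23
  obtain ⟨a', ha', rfl⟩ := exists_nimg hp'
  obtain ⟨b', hb', rfl⟩ := exists_nimg hq'
  have hab : ¬ Commute a' b' := fun e => hpq ((nimg_commute_iff hG ha' hb').2 e)
  have hG1 := nd_grp hG (nd_ne_one h hd ha' hb' hab)
  have hcls := nd_cls h hd
  have hcom := nd_common h hd hc hdc hns d hd
  have hD2 : ∃ u ∈ ND D d, ∃ v ∈ ND D d, u ≠ v :=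
    ⟨_, hp', _, hq', fun e => hpq (e ▸ Commute.refl _)⟩
  haveI : Fact (Nat.Prime 2) := ⟨Nat.prime_two⟩
  haveI : Fact (Nat.Prime 3) := ⟨Nat.prime_three⟩
  have hgood : Indep.Good (ND D d) := Indep.Good.of_cores hG1 hcls hD2 hZ
    (by rw [nd_core hG h.cls hd₀ h2 h3 hd 2]; exact bot_le)
    (by rw [nd_core hG h.cls hd₀ h2 h3 hd 3]; exact bot_le) (conn_of_common hcom)
  obtain ⟨-, hsep1, hwit1⟩ := m23_facts hgood h23
  obtain ⟨-, hS, -⟩ := step hG1 hcls hD2 hZ hcom hsep1 hwit1
  exact ⟨sepAt_of_cls hG h.cls hd (sepAt_of_sep hG hS), d, hd, c, hc, hdc, hG1, hgood,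
    FischerPrimitive.primitive hG1 hcls hD2 hgood.perf hgood.central, h23, hcard⟩

end CfsgLib.ThreeTransp.TypeTwentyFour
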