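import Cfsg.Agent.Lib.Sporadic.Fi23Class
import Cfsg.Agent.Lib.Sporadic.Fi23Mult.Main
import Cfsg.Agent.Lib.Sporadic.Fi23Out.Main
import Cfsg.Agent.Lib.Sporadic.FischerTransitivity
import Cfsg.Agent.Lib.Components.Quasisimple
import Cfsg.Agent.Lib.Sporadic.FiTransfer23.Model

/-!
# The facts on Fi23 used for the groups of type M(24)

The class of the transposition, its centralizer, the number of commuting members, the absence of
outer automorphisms and the triviality of the multiplier, transported along an isomorphism.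
-/

set_option autoImplicit false
set_option maxRecDepth 100000

namespace CfsgLib.ThreeTransp.TypeTwentyFour.Model

open CfsgLib.Sporadic CfsgLib.Sporadic.CosetCert CfsgLib.Sporadic.CosetCert.Fi23P
open Cfsg.Spor FischerTransitivity
open Fi23Data (table forestH)
open Two (dp dp_eq conj_dp comm_of_fix)
open OutFi (dp_injective dp_sq dp_ne_one cls_zero zz_eq_dp)

attribute [local irreducible] PTab.img Forest.cls

theorem tr_eq_dp : tr = dp pt := by
  have hzz : Two.zz ∈ sub lH := relE7_mem
  have h1 : (⟨Two.zz, hzz⟩ : sub lH) ∈ toFi22.ker := by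
    rw [← center_eq, Subgroup.mem_center_iff]
    exact fun k => Subtype.ext (Two.zz_comm k.2).eq
  obtain ⟨a, -, hau⟩ := (Nat.card_eq_two_iff' (1 : toFi22.ker)).1 card_ker_toFi22
  have hne1 : (⟨⟨tr, tr_mem⟩, tr_mem_ker⟩ : toFi22.ker) ≠ 1 := fun e =>
    tr_ne_one (congrArg (fun z : toFi22.ker => ((z : sub lH) : Fi23)) e)
  have hne2 : (⟨⟨Two.zz, hzz⟩, h1⟩ : toFi22.ker) ≠ 1 := fun e =>
    dp_ne_one pt (zz_eq_dp ▸ congrArg (fun z : toFi22.ker => ((z : sub lH) : Fi23)) e)
  have e := (hau _ hne1).trans (hau _ hne2).symm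
  rw [← zz_eq_dp]
  exact congrArg (fun z : toFi22.ker => ((z : sub lH) : Fi23)) e

theorem class_eq : FiTransfer23.classTr = Set.range dp := by
  ext y
  constructor
  · intro hy
    obtain ⟨g, rfl⟩ := isConj_iff.1 hy
    exact ⟨hom g pt, by rw [tr_eq_dp, conj_dp]⟩
  · rintro ⟨p, rfl⟩
    obtain ⟨g, hg⟩ := transitive p
    exact isConj_iff.2 ⟨g, by rw [tr_eq_dp, conj_dp, hg]⟩

theorem card_class : FiTransfer23.classTr.ncard = 31671 := by
  rw [class_eq, Set.ncard_range_of_injective dp_injective]
  exact (Nat.card_fin _)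

theorem tr_mem_class : tr ∈ FiTransfer23.classTr := mem_conjugatesOf_self

theorem commute_tr_iff (u : Fin table.N) :
    Commute tr (dp u) ↔ u = pt ∨ forestH.cls u = 1 := by
  constructor
  · intro h
    have h1 : hom tr u = u := dp_injective (by rw [← conj_dp, h.eq, mul_inv_cancel_right])
    rcases pt_cases u with h' | h' | h'
    · exact Or.inl h'
    · exact Or.inr h'
    · exact absurd h1 (not_fix_class_two h')
  · rintro (rfl | h)
    · rw [tr_eq_dp]
    · exact comm_of_fix (tr_fix_one u h)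

theorem nb_eq : Nb FiTransfer23.classTr tr = dp '' (forestH.classSet table 1 : Set (Fin table.N)) := by
  ext y
  simp only [Nb, Set.mem_setOf_eq, Set.mem_image, Finset.mem_coe, Forest.mem_classSet]
  constructor
  · rintro ⟨hy, hne, hc⟩
    rw [class_eq] at hy
    obtain ⟨u, rfl⟩ := hy
    rcases (commute_tr_iff u).1 hc with e | h
    · exact absurd (by rw [e, tr_eq_dp]) hne
    · exact ⟨u, h, rfl⟩
  · rintro ⟨u, hu, rfl⟩
    refine ⟨by rw [class_eq]; exact ⟨u, rfl⟩, fun e => ?_, (commute_tr_iff u).2 (Or.inr hu)⟩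
    rw [tr_eq_dp] at e
    have h0 : forestH.cls (pt : ℕ) = 0 := by
      show forestH.cls 0 = 0
      decide +kernel
    rw [dp_injective e, h0] at hu
    exact absurd hu (by norm_num)

theorem card_nb : (Nb FiTransfer23.classTr tr).ncard = 3510 := by
  rw [nb_eq, Set.ncard_image_of_injective _ dp_injective, Set.ncard_coe_finset,
    Forest.card_classSet]
  exact Fi23Data.forestH_count1

theorem closure_nb : Subgroup.closure (Nb FiTransfer23.classTr tr) = Subgroup.centralizer ({tr} : Set Fi23) := by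
  have := finite
  refine le_antisymm ((Subgroup.closure_le _).2 fun y hy =>
    Subgroup.mem_centralizer_singleton_iff.2 hy.2.2.symm.eq) ?_
  rw [centralizer_tr]
  set K := (Subgroup.closure (Nb FiTransfer23.classTr tr)).subgroupOf (sub lH) with hK
  have hle : Subgroup.closure (Nb FiTransfer23.classTr tr) ≤ sub lH := by
    rw [← centralizer_tr]
    exact (Subgroup.closure_le _).2 fun y hy => Subgroup.mem_centralizer_singleton_iff.2 hy.2.2.symm.eq
  have hKn : K.Normal := ⟨fun n hn g => by
    rw [hK, Subgroup.mem_subgroupOf] at hn ⊢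
    have hmap : ∀ y ∈ Nb FiTransfer23.classTr tr, (g : Fi23) * y * (g : Fi23)⁻¹ ∈ Nb FiTransfer23.classTr tr := by
      intro y hy
      have h1 : (g : Fi23) * tr * (g : Fi23)⁻¹ = tr := by rw [tr_comm g.2, mul_inv_cancel_right]
      refine ⟨IsConj.trans hy.1 (isConj_iff.2 ⟨_, rfl⟩), fun e => hy.2.1 ?_, ?_⟩
      · rw [← h1] at e; exact mul_left_cancel (mul_right_cancel e)
      · rw [← h1]; exact (Commute.conj_iff _).2 hy.2.2
    have : (Subgroup.closure (Nb FiTransfer23.classTr tr)).map (MulAut.conj (g : Fi23)).toMonoidHom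
        ≤ Subgroup.closure (Nb FiTransfer23.classTr tr) := by
      rw [MonoidHom.map_closure, Subgroup.closure_le]
      rintro _ ⟨y, hy, rfl⟩
      exact Subgroup.subset_closure (hmap y hy)
    exact this ⟨_, hn, rfl⟩⟩
  have := FiP.isSimple
  have hKimg : (K.map toFi22).Normal := hKn.map _ toFi22_surjective
  rcases hKimg.eq_bot_or_eq_top with h | h
  · exfalso
    rw [Subgroup.map_eq_bot_iff] at h
    -- the neighbours would lie in a group of order two
    have hsub : (Nb FiTransfer23.classTr tr) ⊆ (fun z : toFi22.ker => ((z : sub lH) : Fi23)) '' Set.univ :=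
      fun y hy => ⟨⟨⟨y, hle (Subgroup.subset_closure hy)⟩,
        h (Subgroup.subset_closure hy : y ∈ Subgroup.closure (Nb FiTransfer23.classTr tr))⟩, trivial, rfl⟩
    have h2 := (Set.ncard_le_ncard hsub (Set.toFinite _)).trans (Set.ncard_image_le (Set.toFinite _))
    rw [card_nb, Set.ncard_univ, card_ker_toFi22] at h2
    omega
  · have htop : K = ⊤ := by
      by_contra hne
      refine no_complement K ?_
      have hsup : Subgroup.center (sub lH) ⊔ K = ⊤ := by
        rw [center_eq, sup_comm, ← Subgroup.comap_map_eq, h, Subgroup.comap_top]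
      refine Subgroup.isComplement'_of_disjoint_and_mul_eq_univ ?_ ?_
      · rw [disjoint_iff, Subgroup.eq_bot_iff_forall]
        rintro z ⟨hz1, hz2⟩
        by_contra hz
        refine hne (eq_top_iff.2 (hsup ▸ sup_le ?_ le_rfl))
        intro w hw
        rcases eq_or_ne w 1 with rfl | hw1
        · exact one_mem _
        obtain ⟨a, -, hau⟩ := (Nat.card_eq_two_iff' (1 : toFi22.ker)).1 card_ker_toFi22
        have e := (hau ⟨w, center_eq ▸ hw⟩ fun e => hw1 (congrArg Subtype.val e)).trans
          (hau ⟨z, center_eq ▸ hz1⟩ fun e => hz (congrArg Subtype.val e)).symm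
        rw [show w = z from congrArg Subtype.val e]
        exact hz2
      · rw [← Subgroup.normal_mul, hsup, Subgroup.coe_top]
    intro y hy
    exact Subgroup.mem_subgroupOf.1 (htop ▸ Subgroup.mem_top (⟨y, hy⟩ : sub lH) : (⟨y, hy⟩ : sub lH) ∈ K)

theorem sub_quasisimple : Cfsg.IsQuasisimple ↥(sub lH) ∧
    Nonempty (↥(sub lH) ⧸ Subgroup.center ↥(sub lH) ≃* Fi22) := by
  have := finite
  obtain ⟨-, ⟨e⟩, -⟩ := nonsplit
  have := FiP.isSimple
  refine ⟨⟨?_, e.isSimpleGroup⟩, ⟨e⟩⟩
  set K := commutator ↥(sub lH) with hK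
  have h22 : commutator Fi22 = ⊤ := by
    refine ((inferInstance : (commutator Fi22).Normal).eq_bot_or_eq_top).resolve_left ?_
    intro h
    refine not_commutative fun a b => ?_
    rw [← commutatorElement_eq_one_iff_mul_comm, ← Subgroup.mem_bot, ← h]
    exact Subgroup.commutator_mem_commutator (Subgroup.mem_top a) (Subgroup.mem_top b)
  have hsup : K ⊔ Subgroup.center (sub lH) = ⊤ := by
    rw [center_eq, ← Subgroup.comap_map_eq, hK,
      show (commutator ↥(sub lH)).map toFi22 = commutator Fi22 from by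
        rw [map_commutator_eq, MonoidHom.range_eq_top.2 toFi22_surjective, commutator_def],
      h22, Subgroup.comap_top]
  refine Group.isPerfect_def.2 ?_
  by_contra hne
  refine no_complement K ?_
  refine Subgroup.isComplement'_of_disjoint_and_mul_eq_univ ?_ ?_
  · rw [disjoint_iff, Subgroup.eq_bot_iff_forall]
    rintro z ⟨hz1, hz2⟩
    by_contra hz
    refine hne (eq_top_iff.2 (hsup ▸ sup_le le_rfl ?_))
    intro w hw
    rcases eq_or_ne w 1 with rfl | hw1
    · exact one_mem _
    obtain ⟨a, -, hau⟩ := (Nat.card_eq_two_iff' (1 : toFi22.ker)).1 card_ker_toFi22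
    have e' := (hau ⟨w, center_eq ▸ hw⟩ fun e' => hw1 (congrArg Subtype.val e')).trans
      (hau ⟨z, center_eq ▸ hz1⟩ fun e' => hz (congrArg Subtype.val e')).symm
    rw [show w = z from congrArg Subtype.val e']
    exact hz2
  · rw [← Subgroup.normal_mul, sup_comm, hsup, Subgroup.coe_top]

section Iso
variable {G : Type*} [Group G] {D : Set G}

theorem finite_of (h : FiTransfer23.ModelIso G D) : Finite G := by
  obtain ⟨e, -⟩ := h
  have := finite
  exact Finite.of_equiv _ e.symm.toEquiv

theorem card_group (h : FiTransfer23.ModelIso G D) : Nat.card G = 4089470473293004800 := by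
  obtain ⟨e, -⟩ := h
  rw [Nat.card_congr e.toEquiv, card_eq.1]

theorem simple (h : FiTransfer23.ModelIso G D) : IsSimpleGroup G := by
  obtain ⟨e, -⟩ := h
  have := finite
  have := isSimple
  exact e.isSimpleGroup

theorem card_set (h : FiTransfer23.ModelIso G D) : D.ncard = 31671 := by
  obtain ⟨e, he⟩ := h
  rw [← card_class, ← he, Set.ncard_image_of_injective _ e.injective]

theorem to_model (h : FiTransfer23.ModelIso G D) {p : G} (hp : p ∈ D) :
    ∃ e : G ≃* Fi23, e '' D = FiTransfer23.classTr ∧ e p = tr ∧ e '' Nb D p = Nb FiTransfer23.classTr tr := by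
  obtain ⟨e, he⟩ := h
  have h1 : e p ∈ FiTransfer23.classTr := he ▸ ⟨p, hp, rfl⟩
  obtain ⟨g, hg⟩ := isConj_iff.1 h1
  set e' := e.trans (MulAut.conj g⁻¹) with he'
  have himg : e' '' D = FiTransfer23.classTr := by
    rw [he', MulEquiv.coe_trans, Set.image_comp, he]
    refine Set.Subset.antisymm ?_ fun y hy => ⟨g * y * g⁻¹, ?_, ?_⟩
    · rintro _ ⟨y, hy, rfl⟩
      exact IsConj.trans hy (isConj_iff.2 ⟨g⁻¹, by simp⟩)
    · exact IsConj.trans hy (isConj_iff.2 ⟨g, rfl⟩)
    · simp only [MulAut.conj_apply, inv_inv]; group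
  have hp' : e' p = tr := by
    show MulAut.conj g⁻¹ (e p) = tr
    rw [← hg, MulAut.conj_apply, inv_inv]; group
  refine ⟨e', himg, hp', Set.Subset.antisymm ?_ ?_⟩
  · rintro _ ⟨y, ⟨hy, hne, hc⟩, rfl⟩
    exact ⟨himg ▸ ⟨y, hy, rfl⟩, hp' ▸ fun e2 => hne (e'.injective e2), hp' ▸ hc.map e'.toMonoidHom⟩
  · rintro z ⟨hz, hne, hc⟩
    obtain ⟨y, hy, rfl⟩ : z ∈ e' '' D := himg ▸ hz
    exact ⟨y, ⟨hy, fun e2 => hne (by rw [e2, hp']),
      e'.injective (by rw [← hp'] at hc; simpa using hc.eq)⟩, rfl⟩

theorem card_nb_of (h : FiTransfer23.ModelIso G D) {p : G} (hp : p ∈ D) : (Nb D p).ncard = 3510 := by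
  obtain ⟨e, -, -, he⟩ := to_model h hp
  rw [← card_nb, ← he, Set.ncard_image_of_injective _ e.injective]

theorem centralizer_eq (h : FiTransfer23.ModelIso G D) {p : G} (hp : p ∈ D) :
    Subgroup.closure (Nb D p) = Subgroup.centralizer ({p} : Set G) := by
  obtain ⟨e, -, hpe, he⟩ := to_model h hp
  refine Subgroup.map_injective e.injective (f := e.toMonoidHom) ?_
  rw [MonoidHom.map_closure, MulEquiv.coe_toMonoidHom, he, closure_nb]
  ext y
  rw [Subgroup.mem_centralizer_singleton_iff, Subgroup.mem_map_equiv,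
    Subgroup.mem_centralizer_singleton_iff, ← hpe]
  constructor
  · intro hy; exact e.injective (by simpa using hy)
  · intro hy; simpa using congrArg e hy

theorem mem_closure_nb (h : FiTransfer23.ModelIso G D) {p : G} (hp : p ∈ D) : p ∈ Subgroup.closure (Nb D p) := by
  rw [centralizer_eq h hp, Subgroup.mem_centralizer_singleton_iff]

/-- The centralizer of a member has centre of order two. -/
theorem center_closure (h : FiTransfer23.ModelIso G D) {p : G} (hp : p ∈ D) {z : G}
    (hz : Commute z p) (hzc : ∀ g : G, Commute g p → Commute g z) : z = 1 ∨ z = p := by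
  obtain ⟨e, -, hpe, -⟩ := to_model h hp
  have hz' : e z ∈ sub lH := by
    rw [← centralizer_tr, Subgroup.mem_centralizer_singleton_iff, ← hpe]
    exact (hz.map e.toMonoidHom).eq
  have hk : (⟨e z, hz'⟩ : sub lH) ∈ toFi22.ker := by
    rw [← center_eq, Subgroup.mem_center_iff]
    intro k
    refine Subtype.ext ?_
    have h1 : Commute (e.symm k) p := e.injective (by
      rw [map_mul, map_mul, e.apply_symm_apply, hpe]; exact tr_comm k.2)
    have h2 := (hzc _ h1).map e.toMonoidHom
    simpa using h2.eq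
  by_cases h1 : z = 1
  · exact Or.inl h1
  obtain ⟨a, -, hau⟩ := (Nat.card_eq_two_iff' (1 : toFi22.ker)).1 card_ker_toFi22
  have hne1 : (⟨⟨tr, tr_mem⟩, tr_mem_ker⟩ : toFi22.ker) ≠ 1 := fun e' =>
    tr_ne_one (congrArg (fun z : toFi22.ker => ((z : sub lH) : Fi23)) e')
  have e1 := (hau ⟨_, hk⟩ fun e' => h1 (e.injective (by
    rw [map_one]; exact congrArg (fun w : toFi22.ker => ((w : sub lH) : Fi23)) e'))).trans
    (hau _ hne1).symm
  exact Or.inr (e.injective (by
    rw [hpe]; exact congrArg (fun w : toFi22.ker => ((w : sub lH) : Fi23)) e1))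

theorem aut_inner (h : FiTransfer23.ModelIso G D) (α : MulAut G) : ∃ g : G, α = MulAut.conj g := by
  obtain ⟨e, -⟩ := h
  obtain ⟨k, hk⟩ := OutFi.aut_inner (e.symm.trans (α.trans e))
  refine ⟨e.symm k, MulEquiv.ext fun x => e.injective ?_⟩
  have h1 := congrArg (fun β : MulAut Fi23 => β (e x)) hk
  simp only [MulAut.conj_apply, map_mul, map_inv, MulEquiv.apply_symm_apply]
  simpa using h1.symm

theorem stem_trivial (h : FiTransfer23.ModelIso G D) {E : Type*} [Group E] [Finite E] {σ : E →* G}
    (hσ : Cfsg.IsStemExtension σ) : σ.ker = ⊥ := by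
  obtain ⟨e, -⟩ := h
  have hσ' : Cfsg.IsStemExtension (e.toMonoidHom.comp σ) := by
    obtain ⟨h1, h2, h3⟩ := hσ
    have hk : (e.toMonoidHom.comp σ).ker = σ.ker := by
      ext x; simp
    exact ⟨e.surjective.comp h1, hk ▸ h2, hk ▸ h3⟩
  rw [eq_bot_iff]
  intro x hx
  exact MultFi.stem_trivial hσ' ▸ (by simpa using hx : x ∈ (e.toMonoidHom.comp σ).ker)

/-- The centralizer of a member is quasisimple with quotient Fi22. -/
theorem centralizer_quasi (h : FiTransfer23.ModelIso G D) {p : G} (hp : p ∈ D) :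
    Cfsg.IsQuasisimple ↥(Subgroup.centralizer ({p} : Set G)) ∧
      Nonempty (↥(Subgroup.centralizer ({p} : Set G)) ⧸
        Subgroup.center ↥(Subgroup.centralizer ({p} : Set G)) ≃* Fi22) := by
  obtain ⟨e, -, hpe, -⟩ := to_model h hp
  have himg : (Subgroup.centralizer ({p} : Set G)).map e.toMonoidHom = sub lH := by
    rw [← centralizer_tr]
    ext y
    rw [Subgroup.mem_map_equiv, Subgroup.mem_centralizer_singleton_iff,
      Subgroup.mem_centralizer_singleton_iff, ← hpe]
    constructor
    · intro hy; simpa using congrArg e hy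
    · intro hy; exact e.injective (by simpa using hy)
  let φ := (e.subgroupMap (Subgroup.centralizer ({p} : Set G))).trans (MulEquiv.subgroupCongr himg)
  obtain ⟨hq, ⟨f⟩⟩ := sub_quasisimple
  refine ⟨(Components.isQuasisimple_congr φ).2 hq, ⟨(QuotientGroup.congr _ _ φ ?_).trans f⟩⟩
  ext z
  refine Subgroup.mem_map_equiv.trans ?_
  rw [Subgroup.mem_center_iff, Subgroup.mem_center_iff]
  exact ⟨fun h k => φ.symm.injective (by simpa using h (φ.symm k)),
    fun h k => φ.injective (by simpa using h (φ k))⟩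

end Iso

end CfsgLib.ThreeTransp.TypeTwentyFour.Model
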