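import Cfsg.Agent.Lib.ThreeTransp.TypeTwentyFour.TwoCentralizer
import Cfsg.Agent.Lib.Sporadic.FiTransfer23.Transfer
import Cfsg.Agent.Lib.Sporadic.FiTransfer23.Width

/-!
# The groups of type M(24), given the transfer for type M(22)
-/

universe u

set_option autoImplicit false
set_option linter.unusedSectionVars false

namespace CfsgLib.ThreeTransp.TypeTwentyFour

open CfsgLib.Sporadic FischerTransitivity Relation Indep

variable {G : Type u} [Group G] [Finite G] {D : Set G}

/-- All the numbers, given the transfer. -/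
theorem data_of_transfer (hM22 : FiTransfer23.Transfer.M22Transfer.{u})
    (hG : Cfsg.IsThreeTranspositionGroup D) (hprim : Cfsg.IsPrimitiveUnderConj D)
    (h24 : Cfsg.IsOfTypeM24 G D) : Data D :=
  data_of_model hG hprim h24 fun _ _ h1 h2 h3 =>
    FiTransfer23.Transfer.modelIso_of hM22 h1 h2 h3

/-- Order, number of members, width and centralizers. -/
theorem order_row (hM22 : FiTransfer23.Transfer.M22Transfer.{u})
    (hG : Cfsg.IsThreeTranspositionGroup D) (hprim : Cfsg.IsPrimitiveUnderConj D)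
    (h24 : Cfsg.IsOfTypeM24 G D) :
    (Cfsg.layer G).index = 2 ∧ D.ncard = 306936 ∧
      Nat.card G = 2 ^ 22 * 3 ^ 16 * 5 ^ 2 * 7 ^ 3 * 11 * 13 * 17 * 23 * 29 ∧
      Cfsg.commutingWidth D = 24 ∧
      ∀ d ∈ D, Subgroup.closure (Nb D d) = Subgroup.centralizer ({d} : Set G) := by
  have T := data_of_transfer hM22 hG hprim h24
  obtain ⟨d, hd, -⟩ := T.good.two
  refine ⟨(T.layer_facts hprim).2, T.card_set, ?_, T.width hd (FiTransfer23.width_eq (T.model d hd)),
    fun x hx => centralizer_eq T.toSetting hx⟩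
  rw [T.card_group]
  norm_num

/-- The centralizer of a product of two commuting members in the derived group. -/
theorem two_row (hM22 : FiTransfer23.Transfer.M22Transfer.{u})
    (hG : Cfsg.IsThreeTranspositionGroup D) (hprim : Cfsg.IsPrimitiveUnderConj D)
    (h24 : Cfsg.IsOfTypeM24 G D) (L : Subgroup G) (hL : L = commutator G) (d₁ d₂ : G)
    (h₁ : d₁ ∈ D) (h₂ : d₂ ∈ D) (hne : d₁ ≠ d₂) (hc : Commute d₁ d₂) (K CL : Subgroup G)
    (hK : K = L ⊓ Subgroup.centralizer ({d₁, d₂} : Set G))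
    (hCL : CL = L ⊓ Subgroup.centralizer ({d₁ * d₂} : Set G))
    [((Subgroup.zpowers (d₁ * d₂)).subgroupOf CL).Normal] :
    Cfsg.IsQuasisimple ↥K ∧ K = (Cfsg.generalizedFittingSubgroup ↥CL).map CL.subtype ∧ K ≤ CL ∧
      (K.subgroupOf CL).index = 2 ∧ d₁ * d₂ ∈ K ∧
      Nonempty (↥CL ⧸ (Subgroup.zpowers (d₁ * d₂)).subgroupOf CL ≃* MulAut Cfsg.Spor.Fi22) := by
  obtain ⟨-, hI, -⟩ := setup hG hprim h24
  subst hL
  exact (data_of_transfer hM22 hG hprim h24).two_centralizer hprim hI h₁ ⟨h₂, hne.symm, hc⟩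
    K CL hK hCL

end CfsgLib.ThreeTransp.TypeTwentyFour
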