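import Mathlib

/-!
# The discriminant of a strongly regular graph with an even number of points

For a strongly regular graph on an even number of points `(lam - mu)² + 4 (k - mu)` is a square.
-/

set_option autoImplicit false

namespace CfsgLib.ThreeTransp.TypeTwentyFour.Srg

open Matrix

/-- Double counting of the paths of length two. -/
theorem count {V : Type*} [Fintype V] [DecidableEq V] (R : V → V → Prop) [DecidableRel R]
    (k lam mu : ℕ) (hirr : ∀ a, ¬ R a a) (hsymm : ∀ a b, R a b → R b a)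
    (hdeg : ∀ a, (Finset.univ.filter fun c => R a c).card = k)
    (hlam : ∀ a b, R a b → (Finset.univ.filter fun c => R a c ∧ R b c).card = lam)
    (hmu : ∀ a b, a ≠ b → ¬ R a b → (Finset.univ.filter fun c => R a c ∧ R b c).card = mu) (a : V) :
    (k : ℤ) * k = k + lam * k + mu * ((Fintype.card V : ℤ) - 1 - k) := by
  have hsum : ∑ b, ((Finset.univ.filter fun c => R a c ∧ R b c).card : ℤ) = (k : ℤ) * k := by
    simp only [Finset.card_filter, Nat.cast_sum]
    rw [Finset.sum_comm]
    have hc : ∀ c, ∑ b, ((if R a c ∧ R b c then 1 else 0 : ℕ) : ℤ) = if R a c then (k : ℤ) else 0 := by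
      intro c
      by_cases h : R a c
      · rw [if_pos h, ← hdeg c, Finset.card_filter, Nat.cast_sum]
        refine Finset.sum_congr rfl fun b _ => ?_
        by_cases hb : R b c
        · simp [h, hb, hsymm b c hb]
        · simp [hb, show ¬ R c b from fun e => hb (hsymm c b e)]
      · simp [h]
    simp only [hc]
    rw [Finset.sum_ite, Finset.sum_const_zero, add_zero, Finset.sum_const, hdeg, nsmul_eq_mul]
  have hterm : ∀ b, ((Finset.univ.filter fun c => R a c ∧ R b c).card : ℤ)
      = (k : ℤ) * (if a = b then 1 else 0) + lam * (if R a b then 1 else 0)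
        + mu * (1 - (if a = b then 1 else 0) - (if R a b then 1 else 0)) := by
    intro b
    by_cases hab : a = b
    · subst hab; simp [hirr, hdeg]
    · by_cases h : R a b
      · simp [hab, h, hlam a b h]
      · simp [hab, h, hmu a b hab h]
  simp only [hterm, Finset.sum_add_distrib, ← Finset.mul_sum, Finset.sum_sub_distrib,
    Finset.sum_ite_eq, Finset.mem_univ, if_true, Finset.sum_const, Finset.card_univ, nsmul_eq_mul,
    mul_one, Finset.sum_boole, hdeg] at hsum
  linarith

/-- The discriminant is a square. -/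
theorem isSquare_disc {V : Type*} [Fintype V] [DecidableEq V] [Nonempty V] (R : V → V → Prop)
    [DecidableRel R] (k lam mu : ℕ) (hirr : ∀ a, ¬ R a a) (hsymm : ∀ a b, R a b → R b a)
    (hdeg : ∀ a, (Finset.univ.filter fun c => R a c).card = k)
    (hlam : ∀ a b, R a b → (Finset.univ.filter fun c => R a c ∧ R b c).card = lam)
    (hmu : ∀ a b, a ≠ b → ¬ R a b → (Finset.univ.filter fun c => R a c ∧ R b c).card = mu)
    (hv : Even (Fintype.card V)) (hk : lam < 2 * k + mu) :
    IsSquare (((lam : ℤ) - mu) ^ 2 + 4 * ((k : ℤ) - mu)) := by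
  let A : Matrix V V ℤ := Matrix.of fun i j => if R i j then 1 else 0
  let J : Matrix V V ℤ := Matrix.of fun _ _ => 1
  set Δ : ℤ := ((lam : ℤ) - mu) ^ 2 + 4 * ((k : ℤ) - mu) with hΔ
  have hA2 : ∀ i j, (A * A) i j
      = (k : ℤ) * (if i = j then 1 else 0) + lam * A i j
        + mu * (1 - (if i = j then 1 else 0) - A i j) := by
    intro i j
    have hAA : (A * A) i j = ((Finset.univ.filter fun c => R i c ∧ R j c).card : ℤ) := by
      rw [Matrix.mul_apply, Finset.card_filter, Nat.cast_sum]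
      refine Finset.sum_congr rfl fun c _ => ?_
      have hjc : R c j ↔ R j c := ⟨hsymm c j, hsymm j c⟩
      by_cases h1 : R i c <;> by_cases h2 : R j c <;> simp [A, h1, h2, hjc]
    rw [hAA]
    by_cases hij : i = j
    · subst hij; simp [A, hirr, hdeg]
    · by_cases hR : R i j
      · simp [A, hij, hR, hlam i j hR]
      · simp [A, hij, hR, hmu i j hij hR]
  obtain ⟨p, hp⟩ : ∃ p, Fintype.card V = 2 * p + 2 := by
    obtain ⟨r, hr⟩ := hv
    exact ⟨r - 1, by have := Fintype.card_pos (α := V); omega⟩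
  by_cases hΔ0 : Δ = 0
  · exact ⟨0, by simp [hΔ0]⟩
  set M : Matrix V V ℤ := (2 : ℤ) • A + ((mu : ℤ) - lam) • 1 with hM
  have hMM : M * M = Δ • 1 + (4 * mu : ℤ) • J := by
    have e : M * M = (4 : ℤ) • (A * A) + (4 * ((mu : ℤ) - lam)) • A + (((mu : ℤ) - lam) ^ 2) • 1 := by
      simp only [hM, add_mul, mul_add, smul_mul_assoc, mul_smul_comm, Matrix.mul_one,
        Matrix.one_mul, smul_smul, smul_add]
      module
    ext i j
    rw [e]
    simp only [Matrix.add_apply, Matrix.smul_apply, smul_eq_mul, hA2, Matrix.one_apply, J,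
      Matrix.of_apply, hΔ]
    ring
  have hJ : ((Δ : ℚ) • (1 : Matrix V V ℚ) + ((4 * mu : ℤ) : ℚ) • Matrix.of fun _ _ => (1 : ℚ))
      = (Δ : ℚ) • (1 + Matrix.replicateCol Unit (fun _ : V => ((4 * mu : ℤ) : ℚ) / Δ) *
          Matrix.replicateRow Unit (fun _ : V => (1 : ℚ))) := by
    ext i j
    by_cases h : i = j <;> simp [Matrix.mul_apply, h] <;> field_simp
  obtain ⟨i₀⟩ := ‹Nonempty V›
  have hcount := count R k lam mu hirr hsymm hdeg hlam hmu i₀
  have hdet : ((M.det : ℚ)) ^ 2
      = (Δ : ℚ) ^ (2 * p + 1) * (2 * (k : ℚ) + mu - lam) ^ 2 := by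
    have h1 : ((M * M).det : ℚ) = (M.det : ℚ) ^ 2 := by
      rw [Matrix.det_mul, sq, Int.cast_mul]
    rw [← h1, hMM, Int.cast_det]
    have h2 : ((Δ • (1 : Matrix V V ℤ) + (4 * mu : ℤ) • J).map fun x => (x : ℚ))
        = (Δ : ℚ) • (1 : Matrix V V ℚ) + ((4 * mu : ℤ) : ℚ) • Matrix.of fun _ _ => (1 : ℚ) := by
      ext i j
      simp only [Matrix.map_apply, Matrix.add_apply, Matrix.smul_apply, Matrix.one_apply,
        Matrix.of_apply, J, smul_eq_mul]
      by_cases h : i = j <;> simp [h]
    rw [h2, hJ, Matrix.det_smul, Matrix.det_one_add_replicateCol_mul_replicateRow, hp]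
    have hc : (k : ℚ) * k = k + lam * k + mu * ((Fintype.card V : ℚ) - 1 - k) := by
      exact_mod_cast hcount
    have hD : (Δ : ℚ) = ((lam : ℚ) - mu) ^ 2 + 4 * ((k : ℚ) - mu) := by rw [hΔ]; push_cast; ring
    have hne : (Δ : ℚ) ≠ 0 := by exact_mod_cast hΔ0
    simp only [dotProduct, one_mul, Finset.sum_const, Finset.card_univ, nsmul_eq_mul, hp]
    rw [hp] at hc
    push_cast at hc ⊢
    have hkey : (Δ : ℚ) + 4 * mu * (2 * p + 2) = (2 * (k : ℚ) + mu - lam) ^ 2 := by
      rw [hD]; linear_combination (-4) * hc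
    rw [← hkey, pow_succ]
    field_simp
  rw [← Rat.isSquare_intCast_iff]
  have hne : (Δ : ℚ) ≠ 0 := by exact_mod_cast hΔ0
  have hpos : (2 * (k : ℚ) + mu - lam) ≠ 0 := by
    have : (lam : ℚ) < 2 * k + mu := by exact_mod_cast hk
    linarith [this]
  refine ⟨(M.det : ℚ) / ((Δ : ℚ) ^ p * (2 * (k : ℚ) + mu - lam)), ?_⟩
  field_simp
  rw [hdet]
  ring

end CfsgLib.ThreeTransp.TypeTwentyFour.Srg
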