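import Cfsg.Agent.Lib.ThreeTransp.TypeTwentyFour.Derived
import Cfsg.Agent.Lib.Sporadic.Fi22Out.Main

/-!
# The centralizer of a product of two commuting transpositions in the derived group
-/

set_option autoImplicit false
set_option linter.unusedSectionVars false
set_option linter.style.haveILetI false

namespace CfsgLib.ThreeTransp.TypeTwentyFour

open CfsgLib.Sporadic FischerTransitivity Relation Indep

/-- The automorphism group of Fi22 is twice as large. -/
theorem card_mulAut_fi22 :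
    Nat.card (MulAut Cfsg.Spor.Fi22) = 2 * Nat.card Cfsg.Spor.Fi22 := by
  haveI := CosetCert.FiP.isSimple
  rw [Subgroup.card_eq_card_quotient_mul_card_subgroup (Cfsg.Inn Cfsg.Spor.Fi22)]
  congr 1
  · exact CosetCert.FiP.OutFi22.card_out
  · refine Nat.card_congr (MonoidHom.ofInjective (f := (MulAut.conj : Cfsg.Spor.Fi22 →* _)) ?_).toEquiv.symm
    rw [← MonoidHom.ker_eq_bot_iff]
    refine ((inferInstance : (MulAut.conj : Cfsg.Spor.Fi22 →* _).ker.Normal).eq_bot_or_eq_top).resolve_right ?_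
    intro h
    refine CosetCert.Fi23P.not_commutative fun a b => ?_
    have ha : MulAut.conj a = 1 := MonoidHom.mem_ker.1 (h ▸ Subgroup.mem_top a)
    have := DFunLike.congr_fun ha b
    rw [MulAut.conj_apply, MulAut.one_apply] at this
    exact mul_inv_eq_iff_eq_mul.1 this

variable {G : Type*} [Group G] [Finite G] {D : Set G}

/-- The centralizer of a product of two commuting members inside the derived group. -/
theorem Data.two_centralizer (T : Data D) (hprim : Cfsg.IsPrimitiveUnderConj D)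
    (hI : Indep.Ind D 6) {a b : G} (ha : a ∈ D) (hb : b ∈ Nb D a) (K CL : Subgroup G)
    (hK : K = commutator G ⊓ Subgroup.centralizer ({a, b} : Set G))
    (hCL : CL = commutator G ⊓ Subgroup.centralizer ({a * b} : Set G))
    [hn : ((Subgroup.zpowers (a * b)).subgroupOf CL).Normal] :
    Cfsg.IsQuasisimple ↥K ∧ K = (Cfsg.generalizedFittingSubgroup ↥CL).map CL.subtype ∧ K ≤ CL ∧
      (K.subgroupOf CL).index = 2 ∧ a * b ∈ K ∧
      Nonempty (↥CL ⧸ (Subgroup.zpowers (a * b)).subgroupOf CL ≃* MulAut Cfsg.Spor.Fi22) := by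
  have hG := T.good.grp
  obtain ⟨hq, ⟨e⟩, hcenter⟩ := T.pair_group hprim ha hb
  rw [← hK] at hcenter hq
  have e' : ↥K ⧸ Subgroup.center ↥K ≃* Cfsg.Spor.Fi22 := by subst hK; exact e
  clear e
  have hab : a * b ∈ K := by
    rw [hK]
    refine ⟨T.even_of_two hprim ha hb.1, Subgroup.mem_centralizer_iff.2 fun y hy => ?_⟩
    simp only [Set.mem_insert_iff, Set.mem_singleton_iff] at hy
    rcases hy with rfl | rfl
    · exact ((Commute.refl _).mul_right hb.2.2).eq
    · exact (hb.2.2.symm.mul_right (Commute.refl _)).eq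
  have memK : ∀ g : G, g ∈ K ↔ g ∈ commutator G ∧ g * a * g⁻¹ = a ∧ g * b * g⁻¹ = b := by
    intro g
    rw [hK]
    simp only [Subgroup.mem_inf, Subgroup.mem_centralizer_iff, Set.mem_insert_iff,
      Set.mem_singleton_iff, forall_eq_or_imp, forall_eq, mul_inv_eq_iff_eq_mul]
    exact and_congr_right fun _ => and_congr eq_comm eq_comm
  have memCL : ∀ g : G, g ∈ CL ↔ g ∈ commutator G ∧
      ((g * a * g⁻¹ = a ∧ g * b * g⁻¹ = b) ∨ (g * a * g⁻¹ = b ∧ g * b * g⁻¹ = a)) := by
    intro g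
    rw [hCL, Subgroup.mem_inf, Subgroup.mem_centralizer_singleton_iff]
    refine and_congr_right fun _ => ⟨fun h => ?_, ?_⟩
    · refine factor_two T hI ha hb (hG.2.1 g a ha) (nb_conj hG g hb) ?_
      calc g * a * g⁻¹ * (g * b * g⁻¹) = g * (a * b) * g⁻¹ := by group
        _ = a * b := by rw [h, mul_inv_cancel_right]
    · rintro (⟨h1, h2⟩ | ⟨h1, h2⟩)
      all_goals
        refine mul_inv_eq_iff_eq_mul.1 ?_
        rw [show g * (a * b) * g⁻¹ = (g * a * g⁻¹) * (g * b * g⁻¹) by group, h1, h2]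
      exact hb.2.2.eq.symm
  have hle : K ≤ CL := fun g hg => (memCL g).2 ⟨((memK g).1 hg).1, Or.inl ((memK g).1 hg).2⟩
  obtain ⟨s, hs, hsa, hsb⟩ := T.exists_swap hprim ha hb
  have hsCL : s ∈ CL := (memCL s).2 ⟨hs, Or.inr ⟨hsa, hsb⟩⟩
  have hne : a ≠ b := fun e => hb.2.1 e.symm
  have hidx : (K.subgroupOf CL).index = 2 := by
    rw [Subgroup.index_eq_two_iff]
    refine ⟨⟨s, hsCL⟩, fun g => ?_⟩
    obtain ⟨hge, hg⟩ := (memCL g).1 g.2
    rw [Subgroup.mem_subgroupOf, Subgroup.mem_subgroupOf, Subgroup.coe_mul, memK, memK]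
    have hmul : ∀ y, (g : G) * s * y * ((g : G) * s)⁻¹ = (g : G) * (s * y * s⁻¹) * (g : G)⁻¹ :=
      fun y => by group
    rw [hmul, hmul, hsa, hsb]
    rcases hg with ⟨h1, h2⟩ | ⟨h1, h2⟩
    · exact Or.inr ⟨⟨hge, h1, h2⟩, fun h => hne (h.2.1.symm.trans h2)⟩
    · exact Or.inl ⟨⟨mul_mem hge hs, h2, h1⟩, fun h => hne (h.2.1.symm.trans h1)⟩
  set K₁ := K.subgroupOf CL with hK₁
  haveI : K₁.Normal := Subgroup.normal_of_index_eq_two hidx
  have hq₁ : Cfsg.IsQuasisimple ↥K₁ :=
    (Components.isQuasisimple_congr (Subgroup.subgroupOfEquivOfLe hle)).2 hq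
  have hcen : Subgroup.centralizer (K₁ : Set ↥CL) = (Subgroup.zpowers (a * b)).subgroupOf CL := by
    refine le_antisymm (fun g hg => ?_) ?_
    · have hgc : ∀ k ∈ K, k * (g : G) = (g : G) * k := fun k hk =>
        congrArg Subtype.val (Subgroup.mem_centralizer_iff.1 hg ⟨k, hle hk⟩ hk)
      obtain ⟨hge, h | h⟩ := (memCL g).1 g.2
      · rw [Subgroup.mem_subgroupOf]
        rcases hcenter g ((memK g).2 ⟨hge, h⟩) hgc with e | e <;> rw [e]
        · exact one_mem _
        · exact Subgroup.mem_zpowers _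
      · exact (T.swap_moves hprim hI ha hb h.1 fun k hk => hgc k (hK ▸ hk)).elim
    · intro g hg
      refine Subgroup.mem_centralizer_iff.2 fun k hk => Subtype.ext ?_
      obtain ⟨n, hn⟩ := Subgroup.mem_zpowers_iff.1 (Subgroup.mem_subgroupOf.1 hg)
      obtain ⟨-, h1, h2⟩ := (memK k).1 hk
      have hc : Commute (k : G) (a * b) :=
        (show Commute (k : G) a from mul_inv_eq_iff_eq_mul.1 h1).mul_right
          (show Commute (k : G) b from mul_inv_eq_iff_eq_mul.1 h2)
      show (k : G) * (g : G) = (g : G) * (k : G)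
      rw [← hn]
      exact (hc.zpow_right n).eq
  have hcle : Subgroup.centralizer (K₁ : Set ↥CL) ≤ K₁ := by
    rw [hcen]
    intro g hg
    exact (Subgroup.zpowers_le.2 hab) (Subgroup.mem_subgroupOf.1 hg)
  refine ⟨hq, ?_, hle, hidx, hab, ?_⟩
  · rw [AutQuot.genFitting_eq K₁ hq₁ hcle, hK₁, Subgroup.map_subgroupOf_eq_of_le hle]
  · have e₁ : ↥K₁ ⧸ Subgroup.center ↥K₁ ≃* Cfsg.Spor.Fi22 := by
      refine (QuotientGroup.congr _ _ (Subgroup.subgroupOfEquivOfLe hle) ?_).trans e'
      ext z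
      refine Subgroup.mem_map_equiv.trans ?_
      rw [Subgroup.mem_center_iff, Subgroup.mem_center_iff]
      exact ⟨fun h k => (Subgroup.subgroupOfEquivOfLe hle).symm.injective (by
          simpa using h ((Subgroup.subgroupOfEquivOfLe hle).symm k)),
        fun h k => (Subgroup.subgroupOfEquivOfLe hle).injective (by
          simpa using h ((Subgroup.subgroupOfEquivOfLe hle) k))⟩
    refine AutQuot.iso_mulAut K₁ hq₁ e₁ _ hcen.symm ?_
    rw [card_mulAut_fi22]
    have h1 := Subgroup.card_eq_card_quotient_mul_card_subgroup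
      ((Subgroup.zpowers (a * b)).subgroupOf CL)
    have h2 := K₁.index_mul_card
    have hZ : (Subgroup.center ↥K₁) = ((Subgroup.zpowers (a * b)).subgroupOf CL).subgroupOf K₁ := by
      ext z
      rw [Subgroup.mem_center_iff, Subgroup.mem_subgroupOf, ← hcen, Subgroup.mem_centralizer_iff]
      exact ⟨fun h k hk => congrArg Subtype.val (h ⟨k, hk⟩), fun h k => Subtype.ext (h k k.2)⟩
    have h3 := Subgroup.card_eq_card_quotient_mul_card_subgroup (Subgroup.center ↥K₁)
    rw [Nat.card_congr e₁.toEquiv, hZ, Nat.card_congr (Subgroup.subgroupOfEquivOfLe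
      (hcen.symm.le.trans hcle)).toEquiv] at h3
    rw [hidx, h3, h1, ← mul_assoc] at h2
    exact (Nat.eq_of_mul_eq_mul_right Nat.card_pos h2).symm

end CfsgLib.ThreeTransp.TypeTwentyFour
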