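import Cfsg.Agent.Lib.ThreeTransp.TypeTwentyFour.Order

/-!
# The centralizer of a non-commuting pair of a group of type M(24)

It is generated by the common neighbours of the pair, has order 29713078886400 and trivial
centre.
-/

set_option autoImplicit false
set_option linter.unusedSectionVars false
set_option linter.style.haveILetI false

namespace CfsgLib.ThreeTransp.TypeTwentyFour

open CfsgLib.Sporadic FischerTransitivity Relation Indep

variable {G : Type*} [Group G] {D : Set G}

theorem centralizer_pair_map (g a b : G) :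
    (Subgroup.centralizer ({a, b} : Set G)).map (MulAut.conj g).toMonoidHom
      = Subgroup.centralizer ({g * a * g⁻¹, g * b * g⁻¹} : Set G) := by
  ext z
  rw [Subgroup.mem_map_equiv, MulAut.conj_symm_apply]
  simp only [Subgroup.mem_centralizer_iff, Set.mem_insert_iff, Set.mem_singleton_iff,
    forall_eq_or_imp, forall_eq]
  have key : ∀ y : G, y * (g⁻¹ * z * g) = g⁻¹ * z * g * y ↔
      g * y * g⁻¹ * z = z * (g * y * g⁻¹) := by
    intro y
    have h := Commute.conj_iff (a := y) (b := g⁻¹ * z * g) g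
    rw [show g * (g⁻¹ * z * g) * g⁻¹ = z by group] at h
    exact h.symm
  exact and_congr (key a) (key b)

theorem common_map (hG : Cfsg.IsThreeTranspositionGroup D) (g a b : G) :
    (Subgroup.closure (Nb D a ∩ Nb D b)).map (MulAut.conj g).toMonoidHom
      = Subgroup.closure (Nb D (g * a * g⁻¹) ∩ Nb D (g * b * g⁻¹)) := by
  rw [MonoidHom.map_closure, ← FischerRankThree.nb_image hG, ← FischerRankThree.nb_image hG,
    ← Set.image_inter (fun _ _ e => mul_left_cancel (mul_right_cancel e))]
  rfl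

variable [Finite G]

/-- The quotient by the centre at the pair given by the type. -/
theorem quot_card (h24 : Cfsg.IsOfTypeM24 G D) :
    ∃ d ∈ D, ∃ c ∈ D, ¬ Commute d c ∧
      Nat.card (↥(Subgroup.closure (Nb D d ∩ Nb D c)) ⧸
        Subgroup.center ↥(Subgroup.closure (Nb D d ∩ Nb D c))) = 29713078886400 := by
  obtain ⟨-, d, hd, c, hc, hdc, -, N, hN, ⟨eN⟩, ⟨eq⟩⟩ := h24
  refine ⟨d, hd, c, hc, hdc, ?_⟩
  refine (Subgroup.card_eq_card_quotient_mul_card_subgroup N).trans ?_
  rw [Nat.card_congr eq.toEquiv, Nat.card_congr eN.toEquiv, card_pomega, Nat.card_perm,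
    Nat.card_fin]
  decide

/-- The centralizer of a non-commuting pair. -/
theorem Data.pair_closure (T : Data D) (hG : Cfsg.IsThreeTranspositionGroup D)
    (hprim : Cfsg.IsPrimitiveUnderConj D) (h24 : Cfsg.IsOfTypeM24 G D) {x y : G} (hx : x ∈ D)
    (hy : y ∈ D) (hxy : ¬ Commute x y) :
    Subgroup.centralizer ({x, y} : Set G) = Subgroup.closure (Nb D x ∩ Nb D y) ∧
      Nat.card (Subgroup.centralizer ({x, y} : Set G)) = 29713078886400 ∧
      Subgroup.center ↥(Subgroup.closure (Nb D x ∩ Nb D y)) = ⊥ := by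
  obtain ⟨h, -, -, d₁, hd₁, -, -, -, -, hgood, -⟩ := setup hG hprim h24
  have hinj : ∀ g : G, Function.Injective (MulAut.conj g).toMonoidHom :=
    fun g => (MulAut.conj g).injective
  have hcard : ∀ u ∈ D, ∀ v ∈ D, ¬ Commute u v →
      Nat.card (Subgroup.centralizer ({u, v} : Set G)) = 29713078886400 := by
    intro u hu v hv huv
    obtain ⟨g, hg⟩ := h.cls u hu d₁ hd₁
    have hv' := hG.2.1 g v hv
    have hgv : ¬ Commute d₁ (g * v * g⁻¹) := fun e => huv ((Commute.conj_iff g).1 (hg.symm ▸ e))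
    have h1 := T.mu d₁ hd₁ _ hv' hgv
    have h2 := card_pair_centralizer T.toSetting hd₁ hv' hgv hgood
      (Set.nonempty_of_ncard_ne_zero (by rw [h1]; norm_num))
    rw [h1, ← hg, ← centralizer_pair_map, Subgroup.card_map_of_injective (hinj g)] at h2
    exact h2
  obtain ⟨d, hd, c, hc, hdc, hq⟩ := quot_card h24
  set L := Subgroup.closure (Nb D d ∩ Nb D c) with hL
  have hle : ∀ u v : G, Subgroup.closure (Nb D u ∩ Nb D v) ≤ Subgroup.centralizer ({u, v} : Set G) := by
    intro u v
    refine (Subgroup.closure_le _).2 fun z hz => Subgroup.mem_centralizer_iff.2 fun w hw => ?_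
    simp only [Set.mem_insert_iff, Set.mem_singleton_iff] at hw
    rcases hw with rfl | rfl
    · exact hz.1.2.2.eq
    · exact hz.2.2.2.eq
  have hmul := Subgroup.card_eq_card_quotient_mul_card_subgroup (Subgroup.center ↥L)
  rw [hq] at hmul
  have hup := Subgroup.card_le_of_le (hle d c)
  rw [hcard d hd c hc hdc, ← hL] at hup
  have hZ1 : Nat.card (Subgroup.center ↥L) = 1 := by
    have h0 : 0 < Nat.card (Subgroup.center ↥L) := Nat.card_pos
    nlinarith [hmul, hup, h0]
  have hLcard : Nat.card ↥L = 29713078886400 := by rw [hmul, hZ1, mul_one]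
  obtain ⟨g, hg⟩ := h.cls x hx d hd
  have hgy : ¬ Commute d (g * y * g⁻¹) := fun e => hxy ((Commute.conj_iff g).1 (hg.symm ▸ e))
  obtain ⟨k, hk1, hk2⟩ := h.adj hd (hG.2.1 g y hy) hc hgy hdc
  have e1 : k * g * x * (k * g)⁻¹ = d :=
    calc k * g * x * (k * g)⁻¹ = k * (g * x * g⁻¹) * k⁻¹ := by group
      _ = d := by rw [hg, hk1]
  have e2 : k * g * y * (k * g)⁻¹ = c :=
    calc k * g * y * (k * g)⁻¹ = k * (g * y * g⁻¹) * k⁻¹ := by group
      _ = c := hk2
  have hmap := common_map hG (k * g) x y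
  rw [e1, e2, ← hL] at hmap
  have hc1 : Nat.card ↥(Subgroup.closure (Nb D x ∩ Nb D y)) = 29713078886400 := by
    rw [← Subgroup.card_map_of_injective (hinj (k * g)), hmap, hLcard]
  refine ⟨(Subgroup.eq_of_le_of_card_ge (hle x y) ?_).symm, hcard x hx y hy hxy, ?_⟩
  · rw [hc1, hcard x hx y hy hxy]
  · let e : ↥(Subgroup.closure (Nb D x ∩ Nb D y)) ≃* ↥L :=
      (Subgroup.equivMapOfInjective _ _ (hinj (k * g))).trans (MulEquiv.subgroupCongr hmap)
    refine Subgroup.eq_bot_of_card_eq _ ?_
    rw [← hZ1]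
    exact Nat.card_congr (Subgroup.centerCongr e).toEquiv

end CfsgLib.ThreeTransp.TypeTwentyFour
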