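import Cfsg.Agent.Lib.ThreeTransp.TypeTwentyFour.Derived
import Cfsg.Agent.Lib.Sporadic.FischerTripleSwap
import Cfsg.Agent.S0815

/-!
# The centralizer of a product of three commuting transpositions in the derived group

The centralizers of two commuting members in the neighbourhood quotient enter as a hypothesis.
-/

set_option autoImplicit false
set_option linter.unusedSectionVars false
set_option linter.style.haveILetI false

namespace CfsgLib.ThreeTransp.TypeTwentyFour

open CfsgLib.Sporadic FischerTransitivity Relation Indep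

/-- The centralizers of two commuting members are covers of the unitary group. -/
def PairStr {H : Type*} [Group H] (E : Set H) : Prop :=
  ∀ p ∈ E, ∀ q ∈ Nb E p, Cfsg.IsQuasisimple ↥(Subgroup.centralizer ({p, q} : Set H)) ∧
    (Subgroup.center ↥(Subgroup.centralizer ({p, q} : Set H))).map
        (Subgroup.centralizer ({p, q} : Set H)).subtype = Subgroup.closure ({p, q} : Set H) ∧
    ∃ (F : Type) (_ : Field F) (_ : Fintype F), Fintype.card F = 4 ∧
      Nonempty (↥(Subgroup.centralizer ({p, q} : Set H)) ⧸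
        Subgroup.center ↥(Subgroup.centralizer ({p, q} : Set H)) ≃* Cfsg.PSU 6 F 2)

/-- The order of the automorphism group of the unitary group. -/
theorem card_mulAut_psu (F : Type) [Field F] [Fintype F] (hF : Fintype.card F = 4) :
    Nat.card (MulAut (Cfsg.PSU 6 F 2)) = 6 * Nat.card (Cfsg.PSU 6 F 2) := by
  haveI : Fact (Nat.Prime 2) := ⟨Nat.prime_two⟩
  rw [Cfsg.Agent.S0815.result 2 1 le_rfl (q := 2) rfl (by rw [hF]; norm_num) 6 (by norm_num)
    (by omega)]
  norm_num

variable {G : Type*} [Group G] [Finite G] {D : Set G}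

namespace Data

variable (T : Data D) (hprim : Cfsg.IsPrimitiveUnderConj D)
include T hprim

/-- The identification sends a product of the member with a neighbour to the neighbour. -/
theorem even_prod {a b : G} (ha : a ∈ D) (hb : b ∈ Nb D a)
    (θ : ↥(Subgroup.centralizer ({a} : Set G) ⊓ commutator G) ≃* NQ D a)
    (hθ : ∀ (g : ↥(Subgroup.centralizer ({a} : Set G) ⊓ commutator G)) (u : G) (hu : u ∈ Nb D a)
        (hu' : (g : G) * u * (g : G)⁻¹ ∈ Nb D a), θ g * nimg hu * (θ g)⁻¹ = nimg hu')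
    (h : a * b ∈ Subgroup.centralizer ({a} : Set G) ⊓ commutator G) :
    θ ⟨a * b, h⟩ = nimg hb := by
  have hG := T.good.grp
  haveI := Model.simple (T.model a ha)
  set w := (nimg hb)⁻¹ * θ ⟨a * b, h⟩ with hw
  have hcen : ∀ r : NQ D a, Commute r w := by
    intro r
    obtain ⟨⟨r, hr⟩, rfl⟩ := QuotientGroup.mk_surjective r
    induction hr using Subgroup.closure_induction with
    | mem u hu =>
      have e : a * b * u * (a * b)⁻¹ = b * u * b⁻¹ := by
        have hba : b * a * b⁻¹ = a := by rw [← hb.2.2.eq, mul_inv_cancel_right]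
        have h2 := nb_conj hG b hu
        rw [hba] at h2
        calc a * b * u * (a * b)⁻¹ = a * (b * u * b⁻¹) * a⁻¹ := by group
          _ = b * u * b⁻¹ := by rw [h2.2.2.eq, mul_inv_cancel_right]
      have hu2 : b * u * b⁻¹ ∈ Nb D a := by
        have hba : b * a * b⁻¹ = a := by rw [← hb.2.2.eq, mul_inv_cancel_right]
        have h2 := nb_conj hG b hu
        rwa [hba] at h2
      have h1 := hθ ⟨a * b, h⟩ u hu (by show a * b * u * (a * b)⁻¹ ∈ _; rw [e]; exact hu2)
      rw [nimg_congr _ hu2 e] at h1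
      have h2 : nimg hu2 = nimg hb * nimg hu * (nimg hb)⁻¹ := rfl
      rw [h2] at h1
      show Commute (nimg hu) w
      refine Commute.symm (mul_inv_eq_iff_eq_mul.1 ?_)
      calc w * nimg hu * w⁻¹
          = (nimg hb)⁻¹ * (θ ⟨a * b, h⟩ * nimg hu * (θ ⟨a * b, h⟩)⁻¹) * nimg hb := by
            rw [hw]; group
        _ = nimg hu := by rw [h1]; group
    | one => exact Commute.one_left w
    | mul x y hx hy e1 e2 => exact Commute.mul_left e1 e2
    | inv x hx e1 => exact Commute.inv_left e1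
  have h1 : w ∈ Subgroup.center (NQ D a) := Subgroup.mem_center_iff.2 fun r => (hcen r).eq
  have hZ : Subgroup.center (NQ D a) = ⊥ := by
    refine ((inferInstance : (Subgroup.center (NQ D a)).Normal).eq_bot_or_eq_top).resolve_right ?_
    intro htop
    have hc : ∀ x y : NQ D a, x * y = y * x := fun x y =>
      Subgroup.mem_center_iff.1 (htop ▸ Subgroup.mem_top y) x
    letI : CommGroup (NQ D a) := { (inferInstance : Group (NQ D a)) with mul_comm := hc }
    have hp : (Nat.card (NQ D a)).Prime := IsSimpleGroup.prime_card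
    rw [Model.card_group (T.model a ha)] at hp
    exact absurd hp (by norm_num)
  rw [hZ, Subgroup.mem_bot, hw, inv_mul_eq_one] at h1
  exact h1.symm

/-- The centralizer of the product of three commuting members. -/
theorem three_centralizer (hI : Indep.Ind D 6) (hP : ∀ x ∈ D, PairStr (ND D x)) {a b c : G}
    (ha : a ∈ D) (hb : b ∈ D) (hc : c ∈ D) (hab : a ≠ b) (hac : a ≠ c) (hbc : b ≠ c)
    (cab : Commute a b) (cac : Commute a c) (cbc : Commute b c) (E CL K : Subgroup G)
    (hE : E = Subgroup.closure ({a * b, a * c} : Set G))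
    (hCL : CL = commutator G ⊓ Subgroup.centralizer ({a * b * c} : Set G))
    (hK : K = (Cfsg.generalizedFittingSubgroup ↥CL).map CL.subtype) :
    Cfsg.IsQuasisimple ↥K ∧ (Subgroup.center ↥K).map K.subtype = E ∧
      K = commutator G ⊓ Subgroup.centralizer (E : Set G) ∧
      (∃ (_ : (E.subgroupOf K).Normal) (F : Type) (_ : Field F) (_ : Fintype F),
        Fintype.card F = 4 ∧ Nonempty (↥K ⧸ E.subgroupOf K ≃* Cfsg.PSU 6 F 2)) ∧
      ∃ _ : (K.subgroupOf CL).Normal, Nonempty (↥CL ⧸ K.subgroupOf CL ≃* Equiv.Perm (Fin 3)) ∧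
        E ≤ CL ∧ ∃ (_ : (E.subgroupOf CL).Normal) (F : Type) (_ : Field F) (_ : Fintype F),
          Fintype.card F = 4 ∧
            Nonempty (↥CL ⧸ E.subgroupOf CL ≃* MulAut (Cfsg.PSU 6 F 2)) := by
  classical
  have hG := T.good.grp
  have hbN : b ∈ Nb D a := ⟨hb, hab.symm, cab⟩
  have hcN : c ∈ Nb D a := ⟨hc, hac.symm, cac⟩
  set K₀ := commutator G ⊓ Subgroup.centralizer ({a, b, c} : Set G) with hK₀
  have memK : ∀ g : G, g ∈ K₀ ↔ g ∈ commutator G ∧
      g * a * g⁻¹ = a ∧ g * b * g⁻¹ = b ∧ g * c * g⁻¹ = c := by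
    intro g
    simp only [hK₀, Subgroup.mem_inf, Subgroup.mem_centralizer_iff, Set.mem_insert_iff,
      Set.mem_singleton_iff, forall_eq_or_imp, forall_eq, mul_inv_eq_iff_eq_mul]
    exact and_congr_right fun _ => and_congr eq_comm (and_congr eq_comm eq_comm)
  have hgen : (({a * b, a * c} : Set G)) ⊆ (K₀ : Set G) := by
    intro z hz
    simp only [Set.mem_insert_iff, Set.mem_singleton_iff] at hz
    refine ⟨?_, Subgroup.mem_centralizer_iff.2 fun y hy => ?_⟩
    · rcases hz with rfl | rfl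
      · exact T.even_of_two hprim ha hb
      · exact T.even_of_two hprim ha hc
    simp only [Set.mem_insert_iff, Set.mem_singleton_iff] at hy
    rcases hz with rfl | rfl <;> rcases hy with rfl | rfl | rfl
    · exact ((Commute.refl _).mul_right cab).eq
    · exact (cab.symm.mul_right (Commute.refl _)).eq
    · exact (cac.symm.mul_right cbc.symm).eq
    · exact ((Commute.refl _).mul_right cac).eq
    · exact (cab.symm.mul_right cbc).eq
    · exact (cac.symm.mul_right (Commute.refl _)).eq
  have hEK : E ≤ K₀ := hE ▸ (Subgroup.closure_le _).2 hgen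
  -- the centralizer of the four-group fixes the three members
  have hcE : K₀ = commutator G ⊓ Subgroup.centralizer (E : Set G) := by
    rw [hE, Subgroup.centralizer_closure]
    refine le_antisymm ?_ ?_
    · intro g hg
      refine ⟨hg.1, Subgroup.mem_centralizer_iff.2 fun y hy => ?_⟩
      obtain ⟨-, h1, h2, h3⟩ := (memK g).1 hg
      have hA : Commute g a := mul_inv_eq_iff_eq_mul.1 h1
      simp only [Set.mem_insert_iff, Set.mem_singleton_iff] at hy
      rcases hy with rfl | rfl
      · exact (hA.mul_right (show Commute g b from mul_inv_eq_iff_eq_mul.1 h2)).eq.symm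
      · exact (hA.mul_right (show Commute g c from mul_inv_eq_iff_eq_mul.1 h3)).eq.symm
    · rintro g ⟨hg, hgc'⟩
      have hgc := Subgroup.mem_centralizer_iff.1 hgc' 
      have hpair : ∀ y, y ∈ Nb D a → a * y * g = g * (a * y) →
          (g * a * g⁻¹ = a ∧ g * y * g⁻¹ = y) ∨ (g * a * g⁻¹ = y ∧ g * y * g⁻¹ = a) := by
        intro y hy h
        refine factor_two T hI ha hy (hG.2.1 g a ha) (nb_conj hG g hy) ?_
        calc g * a * g⁻¹ * (g * y * g⁻¹) = g * (a * y) * g⁻¹ := by group
          _ = a * y := by rw [← h, mul_inv_cancel_right]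
      rcases hpair b hbN (hgc _ (by simp)) with ⟨h1, h2⟩ | ⟨h1, h2⟩ <;>
        rcases hpair c hcN (hgc _ (by simp)) with ⟨h3, h4⟩ | ⟨h3, h4⟩
      · exact (memK g).2 ⟨hg, h1, h2, h4⟩
      · exact absurd (h1.symm.trans h3) hac
      · exact absurd (h3.symm.trans h1) hab
      · exact absurd (h1.symm.trans h3) hbc
  -- the structure of the kernel
  obtain ⟨θ, hθ⟩ := T.even_iso hprim ha
  have hle : K₀ ≤ (Subgroup.centralizer ({a} : Set G) ⊓ commutator G) := fun g hg => ⟨Subgroup.mem_centralizer_singleton_iff.2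
    (mul_inv_eq_iff_eq_mul.1 ((memK g).1 hg).2.1), hg.1⟩
  set J := Subgroup.centralizer ({nimg hbN, nimg hcN} : Set (NQ D a)) with hJ
  have hfix : ∀ (g : ↥(Subgroup.centralizer ({a} : Set G) ⊓ commutator G)) (u : G) (hu : u ∈ Nb D a),
      (g : G) * u * (g : G)⁻¹ = u ↔ Commute (θ g) (nimg hu) := by
    intro g u hu
    have hga : (g : G) * a * (g : G)⁻¹ = a := fix_of_cen g.2.1
    have hu' : (g : G) * u * (g : G)⁻¹ ∈ Nb D a := by
      have := nb_conj hG (g : G) hu
      rwa [hga] at this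
    have key := hθ g u hu hu'
    constructor
    · intro e
      rw [nimg_congr hu' hu e] at key
      exact mul_inv_eq_iff_eq_mul.1 key
    · intro e
      rw [e.eq, mul_inv_cancel_right] at key
      exact (nimg_inj T.toSetting ha hu hu' key).symm
  have himg : (K₀.subgroupOf (Subgroup.centralizer ({a} : Set G) ⊓ commutator G)).map θ.toMonoidHom = J := by
    ext q
    rw [Subgroup.mem_map_equiv, Subgroup.mem_subgroupOf, memK, hJ]
    simp only [Subgroup.mem_centralizer_iff, Set.mem_insert_iff, Set.mem_singleton_iff,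
      forall_eq_or_imp, forall_eq]
    rw [hfix _ b hbN, hfix _ c hcN, θ.apply_symm_apply]
    exact ⟨fun h => ⟨h.2.2.1.eq.symm, h.2.2.2.eq.symm⟩, fun h =>
      ⟨(θ.symm q).2.2, fix_of_cen (θ.symm q).2.1, h.1.symm, h.2.symm⟩⟩
  let φ : ↥K₀ ≃* ↥J := (Subgroup.subgroupOfEquivOfLe hle).symm.trans
    ((θ.subgroupMap (K₀.subgroupOf (Subgroup.centralizer ({a} : Set G) ⊓ commutator G))).trans (MulEquiv.subgroupCongr himg))
  have hφ : ∀ z : ↥K₀, (φ z : NQ D a) = θ ⟨z, hle z.2⟩ := fun z => rfl
  have hbc' : nimg hcN ∈ Nb (ND D a) (nimg hbN) :=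
    ⟨nimg_mem hcN, fun e => hbc (nimg_inj T.toSetting ha hbN hcN e.symm),
      (nimg_commute_iff hG hbN hcN).2 cbc⟩
  obtain ⟨hq, hZJ, F, iF, iT, hF, ⟨f⟩⟩ := hP a ha _ (nimg_mem hbN) _ hbc'
  have hqK : Cfsg.IsQuasisimple ↥K₀ := (Components.isQuasisimple_congr φ).2 hq
  have hzc : ∀ z : ↥K₀, z ∈ Subgroup.center ↥K₀ ↔ φ z ∈ Subgroup.center ↥J := by
    intro z
    rw [Subgroup.mem_center_iff, Subgroup.mem_center_iff]
    exact ⟨fun h k => φ.symm.injective (by simpa using h (φ.symm k)),
      fun h k => φ.injective (by simpa using h (φ k))⟩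
  have hzE : ∀ z : ↥K₀, z ∈ Subgroup.center ↥K₀ ↔ (z : G) ∈ E := by
    intro z
    have h1 : φ z ∈ Subgroup.center ↥J ↔
        (φ z : NQ D a) ∈ Subgroup.closure ({nimg hbN, nimg hcN} : Set (NQ D a)) := by
      rw [← hZJ]
      exact (Subgroup.mem_map_iff_mem J.subtype_injective).symm
    have hab' : a * b ∈ (Subgroup.centralizer ({a} : Set G) ⊓ commutator G) := hle (hgen (by simp))
    have hac' : a * c ∈ (Subgroup.centralizer ({a} : Set G) ⊓ commutator G) := hle (hgen (by simp))
    have h2 : Subgroup.closure ({nimg hbN, nimg hcN} : Set (NQ D a)) =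
        (Subgroup.closure ({⟨a * b, hab'⟩, ⟨a * c, hac'⟩} : Set ↥(Subgroup.centralizer ({a} : Set G) ⊓ commutator G))).map θ.toMonoidHom := by
      rw [MonoidHom.map_closure, Set.image_pair]
      congr 2
      · exact (T.even_prod hprim ha hbN θ hθ hab').symm
      · rw [Set.singleton_eq_singleton_iff]
        exact (T.even_prod hprim ha hcN θ hθ hac').symm
    have h3 : (Subgroup.closure ({⟨a * b, hab'⟩, ⟨a * c, hac'⟩} : Set ↥(Subgroup.centralizer ({a} : Set G) ⊓ commutator G))).map (Subgroup.centralizer ({a} : Set G) ⊓ commutator G).subtype = E := by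
      rw [MonoidHom.map_closure, Set.image_pair, hE]
      rfl
    rw [hzc, h1, hφ, h2, Subgroup.mem_map_equiv, θ.symm_apply_apply, ← h3]
    exact (Subgroup.mem_map_iff_mem (Subgroup.centralizer ({a} : Set G) ⊓ commutator G).subtype_injective).symm
  have hcenK : (Subgroup.center ↥K₀).map K₀.subtype = E := by
    ext y
    constructor
    · rintro ⟨z, hz, rfl⟩
      exact (hzE z).1 hz
    · exact fun hy => ⟨⟨y, hEK hy⟩, (hzE _).2 hy, rfl⟩
  have hE₀ : E.subgroupOf K₀ = Subgroup.center ↥K₀ := by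
    ext z
    rw [Subgroup.mem_subgroupOf, hzE]
  -- the full centralizer induces all permutations
  set d : Fin 3 → G := ![a, b, c] with hd
  obtain ⟨hle', hn', ⟨s⟩⟩ := FischerTripleSwap.centralizer_quotient hG hprim d
    (by intro i; fin_cases i <;> simp [hd, ha, hb, hc])
    (by intro i j; fin_cases i <;> fin_cases j <;> simp [hd, hab, hac, hbc, hab.symm, hac.symm, hbc.symm])
    (by intro i j; fin_cases i <;> fin_cases j <;> simp [hd, cab, cac, cbc, cab.symm, cac.symm, cbc.symm, Commute.refl])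
    (fun l h1 h2 h3 h4 h5 x hx => by
      have key := same_or_disjoint hG hI (m := 3) le_rfl (by norm_num) (l := l) (l' := [a, b, c])
        ⟨h1, h2, h3, h4⟩
        ⟨by simp [hab, hac, hbc], rfl, by simp [ha, hb, hc],
          by simp [cab, cac, cbc, cab.symm, cac.symm, cbc.symm, Commute.refl]⟩
        (by rw [h5]; simp [hd, mul_assoc])
      rcases key with h | ⟨h, -⟩
      · have := (h x).1 hx
        simp only [List.mem_cons, List.not_mem_nil, or_false] at this
        rcases this with rfl | rfl | rfl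
        exacts [⟨0, rfl⟩, ⟨1, rfl⟩, ⟨2, rfl⟩]
      · omega)
    (Subgroup.centralizer ({a, b, c} : Set G)) (Subgroup.centralizer ({a * b * c} : Set G)) rfl rfl
  set C' := Subgroup.centralizer ({a * b * c} : Set G) with hC'
  set K' := Subgroup.centralizer ({a, b, c} : Set G) with hK'
  have hCLC : CL ≤ C' := hCL ▸ inf_le_right
  have hKCL : K₀ ≤ CL := hCL ▸ inf_le_inf_left _ hle'
  let ψ : ↥CL →* ↥C' ⧸ K'.subgroupOf C' :=
    (QuotientGroup.mk' (K'.subgroupOf C')).comp (Subgroup.inclusion hCLC)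
  have hψ : Function.Surjective ψ := by
    intro y
    obtain ⟨g, rfl⟩ := QuotientGroup.mk_surjective y
    obtain ⟨ε, hε⟩ := T.exists_eps
    have haK : a ∈ K' := Subgroup.mem_centralizer_iff.2 fun y hy => by
      simp only [Set.mem_insert_iff, Set.mem_singleton_iff] at hy
      rcases hy with rfl | rfl | rfl
      exacts [rfl, cab.symm.eq, cac.symm.eq]
    rcases Int.units_eq_one_or (ε (g : G)) with e | e
    · exact ⟨⟨g, hCL ▸ ⟨by rw [← T.ker_eq hprim hε]; exact e, g.2⟩⟩, rfl⟩
    · refine ⟨⟨(g : G) * a, hCL ▸ ⟨?_, mul_mem g.2 (hle' haK)⟩⟩, ?_⟩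
      · rw [← T.ker_eq hprim hε]
        show ε ((g : G) * a) = 1
        rw [map_mul, e, hε a ha]
        decide
      · refine (QuotientGroup.eq (s := K'.subgroupOf C')).2 ?_
        rw [Subgroup.mem_subgroupOf]
        show ((g : G) * a)⁻¹ * (g : G) ∈ K'
        rw [show ((g : G) * a)⁻¹ * (g : G) = a⁻¹ by group]
        exact inv_mem haK
  set K₁ := K₀.subgroupOf CL with hK₁
  have hker : ψ.ker = K₁ := by
    ext g
    rw [hK₁, MonoidHom.mem_ker, Subgroup.mem_subgroupOf, hK₀, Subgroup.mem_inf]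
    refine (QuotientGroup.eq_one_iff _).trans ⟨fun h => ⟨?_, h⟩, fun h => h.2⟩
    exact (inf_le_left : commutator G ⊓ C' ≤ commutator G) (hCL ▸ g.2)
  haveI hn₁ : K₁.Normal := hker ▸ inferInstance
  have hs : Nonempty (↥CL ⧸ K₁ ≃* Equiv.Perm (Fin 3)) :=
    ⟨((QuotientGroup.quotientMulEquivOfEq hker.symm).trans
      (QuotientGroup.quotientKerEquivOfSurjective ψ hψ)).trans s⟩
  have hq₁ : Cfsg.IsQuasisimple ↥K₁ :=
    (Components.isQuasisimple_congr (Subgroup.subgroupOfEquivOfLe hKCL)).2 hqK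
  have hcen : Subgroup.centralizer (K₁ : Set ↥CL) = E.subgroupOf CL := by
    refine le_antisymm (fun g hg => ?_) fun g hg => ?_
    · have hgc : ∀ k ∈ K₀, k * (g : G) = (g : G) * k := fun k hk =>
        congrArg Subtype.val (Subgroup.mem_centralizer_iff.1 hg ⟨k, hKCL hk⟩ hk)
      have hgK : (g : G) ∈ K₀ := by
        refine hcE.ge ⟨(inf_le_left : commutator G ⊓ C' ≤ commutator G) (hCL ▸ g.2), ?_⟩
        exact Subgroup.mem_centralizer_iff.2 fun y hy => hgc y (hEK hy)
      exact (hzE ⟨g, hgK⟩).1 (Subgroup.mem_center_iff.2 fun k => Subtype.ext (hgc k k.2))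
    · have hgE : (g : G) ∈ E := hg
      refine Subgroup.mem_centralizer_iff.2 fun k hk => Subtype.ext ?_
      show (k : G) * (g : G) = (g : G) * (k : G)
      exact congrArg Subtype.val
        (Subgroup.mem_center_iff.1 ((hzE ⟨g, hEK hgE⟩).2 hgE) ⟨k, hk⟩)
  have hEn : (E.subgroupOf CL).Normal := hcen ▸ inferInstance
  have hKeq : K = K₀ := by
    rw [hK, AutQuot.genFitting_eq K₁ hq₁ (hcen ▸ fun g hg => hEK hg), hK₁,
      Subgroup.map_subgroupOf_eq_of_le hKCL]
  subst hKeq
  refine ⟨hqK, hcenK, hcE, ⟨hE₀ ▸ inferInstance, F, iF, iT, hF, ?_⟩, hn₁, hs, hEK.trans hKCL, hEn,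
    F, iF, iT, hF, ?_⟩
  · haveI : (E.subgroupOf K₀).Normal := hE₀ ▸ inferInstance
    refine ⟨(QuotientGroup.quotientMulEquivOfEq hE₀).trans ((QuotientGroup.congr _ _ φ ?_).trans f)⟩
    ext z
    refine Subgroup.mem_map_equiv.trans ?_
    rw [hzc, MulEquiv.apply_symm_apply]
  · have e₁ : ↥K₁ ⧸ Subgroup.center ↥K₁ ≃* Cfsg.PSU 6 F 2 := by
      refine (QuotientGroup.congr _ _ ((Subgroup.subgroupOfEquivOfLe hKCL).trans φ) ?_).trans f
      ext z
      refine Subgroup.mem_map_equiv.trans ?_
      rw [Subgroup.mem_center_iff, Subgroup.mem_center_iff]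
      exact ⟨fun h k => ((Subgroup.subgroupOfEquivOfLe hKCL).trans φ).symm.injective (by
          simpa using h (((Subgroup.subgroupOfEquivOfLe hKCL).trans φ).symm k)),
        fun h k => ((Subgroup.subgroupOfEquivOfLe hKCL).trans φ).injective (by
          simpa using h (((Subgroup.subgroupOfEquivOfLe hKCL).trans φ) k))⟩
    haveI := hEn
    refine AutQuot.iso_mulAut K₁ hq₁ e₁ _ hcen.symm ?_
    rw [card_mulAut_psu F hF]
    have h1 := Subgroup.card_eq_card_quotient_mul_card_subgroup (E.subgroupOf CL)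
    have h2 := K₁.index_mul_card
    obtain ⟨s₁⟩ := hs
    have hi : K₁.index = 6 := by
      rw [Subgroup.index, Nat.card_congr s₁.toEquiv, Nat.card_perm, Nat.card_fin]
      rfl
    have hZ : Subgroup.center ↥K₁ = (E.subgroupOf CL).subgroupOf K₁ := by
      ext z
      rw [Subgroup.mem_center_iff, Subgroup.mem_subgroupOf, ← hcen, Subgroup.mem_centralizer_iff]
      exact ⟨fun h k hk => congrArg Subtype.val (h ⟨k, hk⟩), fun h k => Subtype.ext (h k k.2)⟩
    have h3 := Subgroup.card_eq_card_quotient_mul_card_subgroup (Subgroup.center ↥K₁)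
    rw [Nat.card_congr e₁.toEquiv, hZ, Nat.card_congr (Subgroup.subgroupOfEquivOfLe
      (hcen.symm.le.trans (hcen ▸ fun g hg => hEK hg))).toEquiv] at h3
    rw [hi, h3, h1, ← mul_assoc] at h2
    exact (Nat.eq_of_mul_eq_mul_right Nat.card_pos h2).symm

end Data

end CfsgLib.ThreeTransp.TypeTwentyFour
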