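import Cfsg.Agent.Lib.Components.Quasisimple
import Cfsg.Agent.Lib.Components.GenFitting

/-!
# An extension of a quasisimple group as a group of automorphisms

A group with a normal quasisimple subgroup maps into the automorphism group of the simple quotient
with kernel the centralizer of the subgroup; the subgroup is `F*` when it contains that
centralizer.
-/

set_option autoImplicit false
set_option linter.style.haveILetI false

namespace CfsgLib.ThreeTransp.TypeTwentyFour.AutQuot

open scoped commutatorElement

variable {C : Type*} [Group C] [Finite C]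

omit [Finite C] in
/-- A perfect group acted on trivially modulo its centre is fixed. -/
theorem fixed_of_mod_center (K : Subgroup C) [Group.IsPerfect ↥K] {c : C}
    (h : ∀ k ∈ K, ∃ z : ↥K, z ∈ Subgroup.center ↥K ∧ c * k * c⁻¹ = k * z) :
    c ∈ Subgroup.centralizer (K : Set C) := by
  choose z hz hzk using fun k : ↥K => h k k.2
  have hmul : ∀ a b : ↥K, z (a * b) = z a * z b := by
    intro a b
    have hc : Commute (b : C) (z a) :=
      congrArg Subtype.val (Subgroup.mem_center_iff.1 (hz a) b)
    refine Subtype.ext (mul_left_cancel (a := ((a * b : ↥K) : C)) ?_)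
    rw [← hzk (a * b)]
    calc c * ((a * b : ↥K) : C) * c⁻¹ = (c * a * c⁻¹) * (c * b * c⁻¹) := by
          rw [Subgroup.coe_mul]; group
      _ = ((a : C) * z a) * ((b : C) * z b) := by rw [hzk a, hzk b]
      _ = (a : C) * ((z a : C) * (b : C)) * z b := by simp only [mul_assoc]
      _ = (a : C) * ((b : C) * (z a : C)) * z b := by rw [hc.eq]
      _ = ((a * b : ↥K) : C) * ((z a * z b : ↥K) : C) := by simp [mul_assoc]
  let φ : ↥K →* ↥(Subgroup.center ↥K) :=
    MonoidHom.mk' (fun a => ⟨z a, hz a⟩) fun a b => Subtype.ext (hmul a b)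
  refine Subgroup.mem_centralizer_iff.2 fun k hk => ?_
  have h1 : φ ⟨k, hk⟩ = 1 := by
    have hle : commutator ↥K ≤ φ.ker := by
      rw [commutator_def, Subgroup.commutator_le]
      intro a _ b _
      rw [MonoidHom.mem_ker, map_commutatorElement, commutatorElement_eq_one_iff_mul_comm]
      exact Subtype.ext (Subgroup.mem_center_iff.1 (φ b).2 (φ a))
    refine MonoidHom.mem_ker.1 (hle ?_)
    rw [Group.isPerfect_def.1 inferInstance]
    exact Subgroup.mem_top _
  have h2 : z ⟨k, hk⟩ = 1 := congrArg Subtype.val h1
  have h3 := hzk ⟨k, hk⟩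
  rw [h2, Subgroup.coe_one, mul_one] at h3
  exact (mul_inv_eq_iff_eq_mul.1 h3).symm

/-- The extension is the whole automorphism group when the order is right. -/
theorem iso_mulAut (K : Subgroup C) [K.Normal] (hq : Cfsg.IsQuasisimple ↥K) {T : Type*} [Group T]
    (e : ↥K ⧸ Subgroup.center ↥K ≃* T) (N : Subgroup C) [N.Normal]
    (hN : N = Subgroup.centralizer (K : Set C)) (hcard : Nat.card (C ⧸ N) = Nat.card (MulAut T)) :
    Nonempty (C ⧸ N ≃* MulAut T) := by
  haveI := hq.1
  haveI : Finite T := Finite.of_equiv _ e.toEquiv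
  have hmap : ∀ c : C, (Subgroup.center ↥K).map ((MulAut.conjNormal (H := K) c).toMonoidHom)
      = Subgroup.center ↥K := by
    intro c
    ext z
    refine Subgroup.mem_map_equiv.trans ?_
    rw [Subgroup.mem_center_iff, Subgroup.mem_center_iff]
    exact ⟨fun h k => (MulAut.conjNormal (H := K) c).symm.injective (by
        simpa using h ((MulAut.conjNormal (H := K) c).symm k)),
      fun h k => (MulAut.conjNormal (H := K) c).injective (by
        simpa using h ((MulAut.conjNormal (H := K) c) k))⟩
  let f : C →* MulAut (↥K ⧸ Subgroup.center ↥K) :=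
    MonoidHom.mk' (fun c => QuotientGroup.congr _ _ (MulAut.conjNormal (H := K) c) (hmap c)) fun a b =>
      MulEquiv.ext fun x => by
        obtain ⟨k, rfl⟩ := QuotientGroup.mk_surjective x
        show QuotientGroup.mk ((MulAut.conjNormal (H := K) (a * b)) k) =
          QuotientGroup.mk ((MulAut.conjNormal (H := K) a) ((MulAut.conjNormal (H := K) b) k))
        rw [map_mul, MulAut.mul_apply]
  have hker : f.ker = N := by
    ext c
    rw [MonoidHom.mem_ker, hN]
    constructor
    · intro hc
      refine fixed_of_mod_center K fun k hk => ?_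
      have h1 : (QuotientGroup.mk ((MulAut.conjNormal (H := K) c) ⟨k, hk⟩) :
          ↥K ⧸ Subgroup.center ↥K) = QuotientGroup.mk ⟨k, hk⟩ :=
        (DFunLike.congr_fun hc (QuotientGroup.mk (s := Subgroup.center ↥K) (⟨k, hk⟩ : ↥K)) : _)
      refine ⟨_, (QuotientGroup.eq.1 h1.symm), ?_⟩
      simp [MulAut.conjNormal_apply]
    · intro hc
      refine MulEquiv.ext fun x => ?_
      obtain ⟨k, rfl⟩ := QuotientGroup.mk_surjective x
      show QuotientGroup.mk ((MulAut.conjNormal (H := K) c) k) = QuotientGroup.mk k
      congr 1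
      refine Subtype.ext ?_
      rw [MulAut.conjNormal_apply, ← Subgroup.mem_centralizer_iff.1 hc k k.2, mul_inv_cancel_right]
  let g := QuotientGroup.kerLift f
  refine ⟨(QuotientGroup.quotientMulEquivOfEq hker.symm).trans
    ((MulEquiv.ofBijective g ?_).trans (MulAut.congr e))⟩
  refine (Nat.bijective_iff_injective_and_card g).2 ⟨QuotientGroup.kerLift_injective f, ?_⟩
  rw [Nat.card_congr (QuotientGroup.quotientMulEquivOfEq hker).toEquiv, hcard,
    Nat.card_congr (MulAut.congr e).toEquiv]

/-- A normal quasisimple subgroup containing its centralizer is `F*`. -/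
theorem genFitting_eq (K : Subgroup C) [hn : K.Normal] (hq : Cfsg.IsQuasisimple ↥K)
    (hc : Subgroup.centralizer (K : Set C) ≤ K) : Cfsg.generalizedFittingSubgroup C = K := by
  have hcomp : Cfsg.IsComponent K := ⟨Subgroup.Normal.isSubnormal hn, hq⟩
  have hlay : K ≤ Cfsg.layer C := Components.IsComponent.le_layer hcomp
  refine le_antisymm (Components.generalizedFitting_le_of_centralizer_le K ?_ hc) ?_
  · refine le_trans (fun f hf => ?_) hc
    refine Subgroup.mem_centralizer_iff.2 fun k hk => ?_
    exact ((Subgroup.mem_centralizer_iff.1 (Components.layer_le_centralizer_fitting (hlay hk))) f hf).symm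
  · exact hlay.trans Components.layer_le_generalizedFittingSubgroup

end CfsgLib.ThreeTransp.TypeTwentyFour.AutQuot
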