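import Cfsg.Agent.Lib.ThreeTransp.TypeTwentyFour.Local
import Cfsg.Agent.Lib.ThreeTransp.TypeTwentyFour.Srg

/-!
# The number of transpositions of a group of type M(24)

The centralizer of a member is transitive on the non-commuting pairs of its neighbours, so the
number of common neighbours of a non-commuting pair is a multiple of 3240; the eigenvalues of the
commuting graph force equality.
-/

set_option autoImplicit false
set_option linter.unusedSectionVars false
set_option linter.style.haveILetI false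

namespace CfsgLib.ThreeTransp.TypeTwentyFour

open CfsgLib.Sporadic FischerTransitivity Relation Indep

variable {G : Type*} [Group G]

/-- Orbit times stabilizer. -/
theorem card_orbit_mul {X : Type*} (H K : Subgroup G) (hKH : K ≤ H) (f : G → X) (s : Set X)
    (hmem : ∀ g ∈ H, f g ∈ s) (hsurj : ∀ x ∈ s, ∃ g ∈ H, f g = x)
    (hfib : ∀ g ∈ H, ∀ h ∈ H, f g = f h ↔ g⁻¹ * h ∈ K) :
    Nat.card H = s.ncard * Nat.card K := by
  rw [← (K.subgroupOf H).index_mul_card, Nat.card_congr (Subgroup.subgroupOfEquivOfLe hKH).toEquiv]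
  congr 1
  rw [Subgroup.index, ← Nat.card_coe_set_eq]
  have hwd : ∀ g h : ↥H, QuotientGroup.leftRel (K.subgroupOf H) g h → f g = f h := by
    intro g h hgh
    rw [QuotientGroup.leftRel_apply, Subgroup.mem_subgroupOf] at hgh
    exact (hfib g g.2 h h.2).2 (by simpa using hgh)
  refine Nat.card_congr (Equiv.ofBijective
    (fun q => Quotient.liftOn' q (fun g : ↥H => (⟨f g, hmem g g.2⟩ : ↥s))
      fun g h e => Subtype.ext (hwd g h e)) ⟨?_, ?_⟩)
  · intro q r
    refine Quotient.inductionOn₂' q r fun g h e => Quotient.sound' ?_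
    rw [QuotientGroup.leftRel_apply, Subgroup.mem_subgroupOf]
    simpa using (hfib g g.2 h h.2).1 (congrArg Subtype.val e)
  · rintro ⟨x, hx⟩
    obtain ⟨g, hg, rfl⟩ := hsurj x hx
    exact ⟨Quotient.mk'' ⟨g, hg⟩, rfl⟩

theorem conj_eq_iff {g h x : G} :
    g * x * g⁻¹ = h * x * h⁻¹ ↔ (g⁻¹ * h) * x = x * (g⁻¹ * h) := by
  constructor
  · intro e
    calc g⁻¹ * h * x = g⁻¹ * (h * x * h⁻¹) * h := by group
      _ = g⁻¹ * (g * x * g⁻¹) * h := by rw [e]
      _ = x * (g⁻¹ * h) := by group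
  · intro e
    calc g * x * g⁻¹ = g * (x * (g⁻¹ * h)) * h⁻¹ := by group
      _ = g * ((g⁻¹ * h) * x) * h⁻¹ := by rw [e]
      _ = h * x * h⁻¹ := by group

/-- Conjugation carries a joint centralizer to the other. -/
theorem card_centralizer_conj (g a b c : G) :
    Nat.card (Subgroup.centralizer ({g * a * g⁻¹, g * b * g⁻¹, g * c * g⁻¹} : Set G))
      = Nat.card (Subgroup.centralizer ({a, b, c} : Set G)) := by
  refine (Nat.card_congr (Equiv.subtypeEquiv (MulAut.conj g).toEquiv fun z => ?_)).symm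
  show z ∈ Subgroup.centralizer ({a, b, c} : Set G) ↔
    g * z * g⁻¹ ∈ Subgroup.centralizer ({g * a * g⁻¹, g * b * g⁻¹, g * c * g⁻¹} : Set G)
  have key : ∀ y, Commute y z ↔ Commute (g * y * g⁻¹) (g * z * g⁻¹) := fun y =>
    (Commute.conj_iff g).symm
  simp only [Subgroup.mem_centralizer_iff, Set.mem_insert_iff, Set.mem_singleton_iff,
    forall_eq_or_imp, forall_eq]
  exact and_congr (key a) (and_congr (key b) (key c))

/-- A number between two consecutive squares is not a square. -/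
theorem not_square_int {N a : ℤ} (ha : 0 ≤ a) (h1 : a * a < N) (h2 : N < (a + 1) * (a + 1)) :
    ¬ IsSquare N := by
  rintro ⟨r, rfl⟩
  rcases le_or_gt |r| a with h | h
  · nlinarith [abs_mul_abs_self r, abs_nonneg r]
  · nlinarith [abs_mul_abs_self r, abs_nonneg r, Int.add_one_le_iff.2 h]

variable {D : Set G} [Finite G]

/-- The non-commuting pairs of neighbours. -/
def pairs (D : Set G) (x : G) : Set (G × G) :=
  {p | p.1 ∈ Nb D x ∧ p.2 ∈ Nb D x ∧ ¬ Commute p.1 p.2}

theorem card_rest (S : Setting D) {x u : G} (hx : x ∈ D) (hu : u ∈ Nb D x) :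
    {v | v ∈ Nb D x ∧ ¬ Commute u v}.ncard = 28160 := by
  have h1 : Nb D x = insert u (Nb D x ∩ Nb D u) ∪ {v | v ∈ Nb D x ∧ ¬ Commute u v} := by
    ext v
    simp only [Set.mem_union, Set.mem_insert_iff, Set.mem_inter_iff, Set.mem_ofPred_eq]
    constructor
    · intro hv
      by_cases hc : Commute u v
      · by_cases e : v = u
        · exact Or.inl (Or.inl e)
        · exact Or.inl (Or.inr ⟨hv, hv.1, e, hc⟩)
      · exact Or.inr ⟨hv, hc⟩
    · rintro ((rfl | ⟨h, -⟩) | ⟨h, -⟩)
      exacts [hu, h, h]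
  have h2 : Disjoint (insert u (Nb D x ∩ Nb D u)) {v | v ∈ Nb D x ∧ ¬ Commute u v} := by
    rw [Set.disjoint_left]
    rintro v (rfl | h) ⟨-, hn⟩
    · exact hn (Commute.refl _)
    · exact hn h.2.2.2
  have h3 : (insert u (Nb D x ∩ Nb D u)).ncard = 3511 := by
    rw [Set.ncard_insert_of_notMem (fun h => h.2.2.1 rfl) (Set.toFinite _), card_common S hx hu]
  have h4 := Set.ncard_union_eq h2 (Set.toFinite _) (Set.toFinite _)
  rw [← h1, card_nb S hx, h3] at h4
  omega

theorem card_pairs (S : Setting D) {x : G} (hx : x ∈ D) :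
    (pairs D x).ncard = 31671 * 28160 := by
  classical
  haveI : Fintype G := Fintype.ofFinite G
  rw [Set.ncard_eq_toFinset_card']
  have hfib : ∀ u ∈ (Nb D x).toFinset,
      ((pairs D x).toFinset.filter fun p => p.1 = u).card = 28160 := by
    intro u hu
    rw [Set.mem_toFinset] at hu
    rw [← card_rest S hx hu, Set.ncard_eq_toFinset_card']
    refine Finset.card_bij (fun p _ => p.2) ?_ ?_ ?_
    · intro p hp
      simp only [Finset.mem_filter, Set.mem_toFinset] at hp ⊢
      exact ⟨hp.1.2.1, hp.2 ▸ hp.1.2.2⟩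
    · intro p hp q hq e
      simp only [Finset.mem_filter] at hp hq
      exact Prod.ext (hp.2.trans hq.2.symm) e
    · intro v hv
      simp only [Set.mem_toFinset] at hv
      exact ⟨(u, v), by
        simp only [Finset.mem_filter, Set.mem_toFinset]; exact ⟨⟨hu, hv.1, hv.2⟩, trivial⟩, rfl⟩
  rw [Finset.card_eq_sum_card_fiberwise (f := fun p : G × G => p.1) (t := (Nb D x).toFinset)
      (fun p hp => by simp only [Finset.mem_coe, Set.mem_toFinset] at hp ⊢; exact hp.1),
    Finset.sum_congr rfl hfib, Finset.sum_const, smul_eq_mul]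
  rw [← Set.ncard_eq_toFinset_card', card_nb S hx]

/-- The centralizer of a member is transitive on the non-commuting pairs of its neighbours. -/
theorem pairs_transitive (S : Setting D) {x : G} (hx : x ∈ D) (h1 : Indep.Good (ND D x))
    {p q : G × G} (hp : p ∈ pairs D x) (hq : q ∈ pairs D x) :
    ∃ g ∈ Subgroup.centralizer ({x} : Set G), g * p.1 * g⁻¹ = q.1 ∧ g * p.2 * g⁻¹ = q.2 := by
  obtain ⟨hpu, hpv, hpn⟩ := hp
  obtain ⟨hqu, hqv, hqn⟩ := hq
  have hG := S.good.grp
  obtain ⟨r, hr⟩ := h1.cls _ (nimg_mem hpu) _ (nimg_mem hqu)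
  have hrv : r * nimg hpv * r⁻¹ ∈ ND D x := h1.grp.2.1 r _ (nimg_mem hpv)
  have hnp : ¬ Commute (nimg hqu) (r * nimg hpv * r⁻¹) := fun e =>
    hpn ((nimg_commute_iff hG hpu hpv).1 ((Commute.conj_iff r).1 (hr.symm ▸ e)))
  obtain ⟨s, hs1, hs2⟩ := h1.adj (nimg_mem hqu) hrv (nimg_mem hqv) hnp
    fun e => hqn ((nimg_commute_iff hG hqu hqv).1 e)
  obtain ⟨w, hw⟩ := QuotientGroup.mk_surjective (s * r)
  have hwx : (w : G) * x * (w : G)⁻¹ = x := FischerNeighbourhood.fixes hG w.2
  have key : ∀ (u t : G) (hu : u ∈ Nb D x) (ht : t ∈ Nb D x),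
      (s * r) * nimg hu * (s * r)⁻¹ = nimg ht → (w : G) * u * (w : G)⁻¹ = t := by
    intro u t hu ht e
    have hu' : (w : G) * u * (w : G)⁻¹ ∈ Nb D x := by
      have := nb_conj hG (w : G) hu
      rwa [hwx] at this
    refine nimg_inj S hx hu' ht ?_
    rw [show nimg hu' = (QuotientGroup.mk w : NQ D x) * nimg hu * (QuotientGroup.mk w)⁻¹ from rfl,
      hw, e]
  refine ⟨w, Subgroup.mem_centralizer_singleton_iff.2 (mul_inv_eq_iff_eq_mul.1 hwx),
    key _ _ hpu hqu ?_, key _ _ hpv hqv ?_⟩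
  · calc s * r * nimg hpu * (s * r)⁻¹ = s * (r * nimg hpu * r⁻¹) * s⁻¹ := by group
      _ = nimg hqu := by rw [hr, hs1]
  · calc s * r * nimg hpv * (s * r)⁻¹ = s * (r * nimg hpv * r⁻¹) * s⁻¹ := by group
      _ = nimg hqv := hs2

/-- The stabilizer of a non-commuting pair of neighbours. -/
theorem card_pair_stab (S : Setting D) {x : G} (hx : x ∈ D) (h1 : Indep.Good (ND D x)) {u v : G}
    (hp : (u, v) ∈ pairs D x) :
    Nat.card (Subgroup.centralizer ({x, u, v} : Set G)) = 9170703360 := by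
  have hG := S.good.grp
  have h := card_orbit_mul (Subgroup.centralizer ({x} : Set G))
    (Subgroup.centralizer ({x, u, v} : Set G))
    (Subgroup.centralizer_le (Set.singleton_subset_iff.2 (by simp)))
    (fun g => (g * u * g⁻¹, g * v * g⁻¹)) (pairs D x) ?_ ?_ ?_
  · rw [card_centralizer S hx, card_pairs S hx] at h
    omega
  · intro g hg
    have hgx : g * x * g⁻¹ = x := by
      rw [Subgroup.mem_centralizer_singleton_iff.1 hg, mul_inv_cancel_right]
    exact ⟨hgx ▸ nb_conj hG g hp.1, hgx ▸ nb_conj hG g hp.2.1,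
      fun e => hp.2.2 ((Commute.conj_iff g).1 e)⟩
  · intro q hq
    obtain ⟨g, hg, e1, e2⟩ := pairs_transitive S hx h1 hp hq
    exact ⟨g, hg, Prod.ext e1 e2⟩
  · intro g hg k hk
    rw [Prod.mk.injEq, conj_eq_iff, conj_eq_iff]
    have hgk := (Subgroup.centralizer ({x} : Set G)).mul_mem
      ((Subgroup.centralizer ({x} : Set G)).inv_mem hg) hk
    rw [Subgroup.mem_centralizer_singleton_iff] at hgk
    simp only [Subgroup.mem_centralizer_iff, Set.mem_insert_iff, Set.mem_singleton_iff,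
      forall_eq_or_imp, forall_eq]
    exact ⟨fun e => ⟨hgk.symm, e.1.symm, e.2.symm⟩, fun e => ⟨e.2.1.symm, e.2.2.symm⟩⟩

section Pair
variable (S : Setting D) {d c : G} (hd : d ∈ D) (hc : c ∈ D) (hdc : ¬ Commute d c)
  (h1 : Indep.Good (ND D d))
include S hd hc hdc h1

/-- A common neighbour with the pair goes to the member and a pair of its neighbours. -/
theorem to_pair {a : G} (ha : a ∈ Nb D d ∩ Nb D c) :
    ∃ g : G, g * a * g⁻¹ = d ∧ (g * d * g⁻¹, g * c * g⁻¹) ∈ pairs D d := by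
  have hG := S.good.grp
  obtain ⟨g, hg⟩ := S.good.cls a ha.1.1 d hd
  refine ⟨g, hg, ?_, ?_, fun e => hdc ((Commute.conj_iff g).1 e)⟩
  · have := nb_conj hG g (FischerLines.nb_symm hd ha.1)
    rwa [hg] at this
  · have := nb_conj hG g (FischerLines.nb_symm hc ha.2)
    rwa [hg] at this

theorem card_triple {a : G} (ha : a ∈ Nb D d ∩ Nb D c) :
    Nat.card (Subgroup.centralizer ({a, d, c} : Set G)) = 9170703360 := by
  obtain ⟨g, hg, hp⟩ := to_pair S hd hc hdc h1 ha
  have h := card_pair_stab S hd h1 hp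
  have h' := card_centralizer_conj g a d c
  rw [hg] at h'
  exact h'.symm.trans h

theorem common_transitive {a b : G} (ha : a ∈ Nb D d ∩ Nb D c) (hb : b ∈ Nb D d ∩ Nb D c) :
    ∃ k : G, k * a * k⁻¹ = b ∧ k * d * k⁻¹ = d ∧ k * c * k⁻¹ = c := by
  obtain ⟨g, hg, hp⟩ := to_pair S hd hc hdc h1 ha
  obtain ⟨g', hg', hp'⟩ := to_pair S hd hc hdc h1 hb
  obtain ⟨r, hr, e1, e2⟩ := pairs_transitive S hd h1 hp hp'
  have hrd : r * d * r⁻¹ = d := by
    rw [Subgroup.mem_centralizer_singleton_iff.1 hr, mul_inv_cancel_right]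
  refine ⟨g'⁻¹ * r * g, ?_, ?_, ?_⟩
  · calc g'⁻¹ * r * g * a * (g'⁻¹ * r * g)⁻¹ = g'⁻¹ * (r * (g * a * g⁻¹) * r⁻¹) * g' := by group
      _ = g'⁻¹ * (g' * b * g'⁻¹) * g' := by rw [hg, hrd, hg']
      _ = b := by group
  · calc g'⁻¹ * r * g * d * (g'⁻¹ * r * g)⁻¹ = g'⁻¹ * (r * (g * d * g⁻¹) * r⁻¹) * g' := by group
      _ = g'⁻¹ * (g' * d * g'⁻¹) * g' := by rw [show r * (g * d * g⁻¹) * r⁻¹ = _ from e1]
      _ = d := by group
  · calc g'⁻¹ * r * g * c * (g'⁻¹ * r * g)⁻¹ = g'⁻¹ * (r * (g * c * g⁻¹) * r⁻¹) * g' := by group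
      _ = g'⁻¹ * (g' * c * g'⁻¹) * g' := by rw [show r * (g * c * g⁻¹) * r⁻¹ = _ from e2]
      _ = c := by group

/-- The pair centralizer and the number of common neighbours. -/
theorem card_pair_centralizer (hne : (Nb D d ∩ Nb D c).Nonempty) :
    Nat.card (Subgroup.centralizer ({d, c} : Set G))
      = (Nb D d ∩ Nb D c).ncard * 9170703360 := by
  have hG := S.good.grp
  obtain ⟨a, ha⟩ := hne
  rw [← card_triple S hd hc hdc h1 ha]
  refine card_orbit_mul _ _ (Subgroup.centralizer_le ?_) (fun g => g * a * g⁻¹) _ ?_ ?_ ?_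
  · intro z hz
    simp only [Set.mem_insert_iff, Set.mem_singleton_iff] at hz ⊢
    exact Or.inr hz
  · intro g hg
    rw [Subgroup.mem_centralizer_iff] at hg
    have e1 : g * d * g⁻¹ = d := by rw [← hg d (by simp), mul_inv_cancel_right]
    have e2 : g * c * g⁻¹ = c := by rw [← hg c (by simp), mul_inv_cancel_right]
    have h1' := nb_conj hG g ha.1
    have h2' := nb_conj hG g ha.2
    rw [e1] at h1'
    rw [e2] at h2'
    exact ⟨h1', h2'⟩
  · intro b hb
    obtain ⟨k, hk1, hk2, hk3⟩ := common_transitive S hd hc hdc h1 ha hb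
    refine ⟨k, Subgroup.mem_centralizer_iff.2 fun z hz => ?_, hk1⟩
    simp only [Set.mem_insert_iff, Set.mem_singleton_iff] at hz
    rcases hz with rfl | rfl
    · exact (mul_inv_eq_iff_eq_mul.1 hk2).symm
    · exact (mul_inv_eq_iff_eq_mul.1 hk3).symm
  · intro g hg k hk
    rw [conj_eq_iff]
    have hgk := mul_mem (inv_mem hg) hk
    simp only [Subgroup.mem_centralizer_iff, Set.mem_insert_iff, Set.mem_singleton_iff,
      forall_eq_or_imp, forall_eq] at hgk ⊢
    exact ⟨fun e => ⟨e.symm, hgk.1, hgk.2⟩, fun e => e.1.symm⟩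

/-- The parameters. -/
theorem params (hcard : 29713078886400 ∣ Nat.card ↥(Subgroup.closure (Nb D d ∩ Nb D c))) :
    D.ncard = 306936 ∧ (Nb D d ∩ Nb D c).ncard = 3240 := by
  classical
  have hG := S.good.grp
  set M := Nb D d ∩ Nb D c with hM
  have hne : M.Nonempty := by
    by_contra h
    rw [Set.not_nonempty_iff_eq_empty] at h
    rw [h, Subgroup.closure_empty, Subgroup.card_bot] at hcard
    norm_num at hcard
  have hle : Subgroup.closure M ≤ Subgroup.centralizer ({d, c} : Set G) := by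
    refine (Subgroup.closure_le _).2 fun z hz => Subgroup.mem_centralizer_iff.2 fun y hy => ?_
    simp only [Set.mem_insert_iff, Set.mem_singleton_iff] at hy
    rcases hy with rfl | rfl
    · exact hz.1.2.2.eq
    · exact hz.2.2.2.eq
  have hdiv := hcard.trans (Subgroup.card_dvd_of_le hle)
  rw [card_pair_centralizer S hd hc hdc h1 hne] at hdiv
  obtain ⟨t, ht⟩ : 3240 ∣ M.ncard := by
    rw [show (29713078886400 : ℕ) = 3240 * 9170703360 from by norm_num] at hdiv
    exact (Nat.mul_dvd_mul_iff_right (by norm_num)).1 hdiv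
  haveI : Fintype G := Fintype.ofFinite G
  haveI : Nonempty ↥D := ⟨⟨d, hd⟩⟩
  have hcnt : ∀ P : G → Prop, (∀ z, P z → z ∈ D) →
      (Finset.univ.filter fun z : ↥D => P z).card = {z | P z}.ncard := by
    intro P hP
    rw [← Set.ncard_coe_finset, ← Set.ncard_image_of_injective _ Subtype.val_injective]
    congr 1
    ext z
    simp only [Finset.coe_filter, Finset.mem_univ, true_and, Set.mem_image, Set.mem_ofPred_eq]
    exact ⟨by rintro ⟨w, hw, rfl⟩; exact hw, fun hz => ⟨⟨z, hP z hz⟩, hz, rfl⟩⟩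
  have hmu : ∀ x ∈ D, ∀ y ∈ D, ¬ Commute x y → (Nb D x ∩ Nb D y).ncard = M.ncard := by
    intro x hx y hy hxy
    obtain ⟨g, hg⟩ := S.good.cls x hx d hd
    have hgy : ¬ Commute d (g * y * g⁻¹) := fun e => hxy ((Commute.conj_iff g).1 (hg.symm ▸ e))
    obtain ⟨k, hk1, hk2⟩ := S.good.adj hd (hG.2.1 g y hy) hc hgy hdc
    have e1 : k * g * x * (k * g)⁻¹ = d :=
      calc k * g * x * (k * g)⁻¹ = k * (g * x * g⁻¹) * k⁻¹ := by group
        _ = d := by rw [hg, hk1]
    have e2 : k * g * y * (k * g)⁻¹ = c :=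
      calc k * g * y * (k * g)⁻¹ = k * (g * y * g⁻¹) * k⁻¹ := by group
        _ = c := hk2
    have hinj : Function.Injective fun w => (k * g) * w * (k * g)⁻¹ :=
      fun _ _ h => mul_left_cancel (mul_right_cancel h)
    rw [hM, ← e1, ← e2, ← FischerRankThree.nb_image hG, ← FischerRankThree.nb_image hG,
      ← Set.image_inter hinj, Set.ncard_image_of_injective _ hinj]
  let R : ↥D → ↥D → Prop := fun p q => (q : G) ∈ Nb D (p : G)
  have hirr : ∀ p, ¬ R p p := fun p h => h.2.1 rfl
  have hsym : ∀ p q, R p q → R q p := fun p q h => FischerLines.nb_symm p.2 h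
  have hdeg : ∀ p, (Finset.univ.filter fun z => R p z).card = 31671 := fun p =>
    (hcnt (fun z => z ∈ Nb D (p : G)) fun z h => h.1).trans (card_nb S p.2)
  have hlam : ∀ p q, R p q → (Finset.univ.filter fun z => R p z ∧ R q z).card = 3510 := fun p q h => by
    convert (hcnt (fun z => z ∈ Nb D (p : G) ∧ z ∈ Nb D (q : G)) fun z h => h.1.1).trans
      (card_common S p.2 h)
  have hmu' : ∀ p q, p ≠ q → ¬ R p q →
      (Finset.univ.filter fun z => R p z ∧ R q z).card = M.ncard := fun p q hpq hn => by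
    convert (hcnt (fun z => z ∈ Nb D (p : G) ∧ z ∈ Nb D (q : G)) fun z h => h.1.1).trans
      (hmu p p.2 q q.2 fun e => hn ⟨q.2, fun e' => hpq (Subtype.ext e').symm, e⟩)
  have hcount := Srg.count R 31671 3510 M.ncard hirr hsym hdeg hlam hmu' ⟨d, hd⟩
  have hle' : M.ncard ≤ 31671 := card_nb S hd ▸ Set.ncard_le_ncard Set.inter_subset_left
  have hn : Fintype.card ↥D = D.ncard := by rw [← Nat.card_coe_set_eq, Nat.card_eq_fintype_card]
  rw [hn, ht] at hcount
  push_cast at hcount
  have ht9 : t ≤ 9 := by omega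
  have htl : (t : ℤ) * ((D.ncard : ℤ) - 31672) = 275264 := by linarith
  have h0 : t ≠ 0 := fun e => by rw [e] at htl; norm_num at htl
  have hsq : ∀ m, M.ncard = m → D.ncard % 2 = 0 →
      IsSquare (((3510 : ℤ) - m) ^ 2 + 4 * (31671 - m)) := fun m hm he => by
    have := Srg.isSquare_disc R 31671 3510 M.ncard hirr hsym hdeg hlam hmu'
      (by rw [hn]; exact Nat.even_iff.2 he) (by omega)
    rwa [hm] at this
  interval_cases t
  · exact absurd rfl h0
  · norm_num at htl ht
    exact ⟨by omega, by omega⟩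
  · exfalso
    norm_num at htl ht
    refine not_square_int (a := 2986) (by norm_num) ?_ ?_ (hsq 6480 (by omega) (by omega)) <;>
      norm_num
  · exfalso; norm_num at htl; omega
  · exfalso
    norm_num at htl ht
    refine not_square_int (a := 9453) (by norm_num) ?_ ?_ (hsq 12960 (by omega) (by omega)) <;>
      norm_num
  · exfalso; norm_num at htl; omega
  · exfalso; norm_num at htl; omega
  · exfalso; norm_num at htl; omega
  · exfalso
    norm_num at htl ht
    refine not_square_int (a := 22410) (by norm_num) ?_ ?_ (hsq 25920 (by omega) (by omega)) <;>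
      norm_num
  · exfalso; norm_num at htl; omega

end Pair

end CfsgLib.ThreeTransp.TypeTwentyFour
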