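import Cfsg.Agent.Lib.ThreeTransp.TypeTwentyFour.Order
import Cfsg.Agent.Lib.ThreeTransp.TypeTwentyFour.AutQuot
import Cfsg.Agent.Lib.ThreeTransp.Indep.Factor

/-!
# Transposition centralizers inside the derived group of a group of type M(24)
-/

set_option autoImplicit false
set_option linter.unusedSectionVars false
set_option linter.style.haveILetI false

namespace CfsgLib.ThreeTransp.TypeTwentyFour

open CfsgLib.Sporadic FischerTransitivity Relation Indep

variable {G : Type*} [Group G] [Finite G] {D : Set G}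

theorem fix_of_cen {x g : G} (h : g ∈ Subgroup.centralizer ({x} : Set G)) :
    g * x * g⁻¹ = x := by
  rw [Subgroup.mem_centralizer_singleton_iff.1 h, mul_inv_cancel_right]

theorem factor_two (T : Data D) (hI : Indep.Ind D 6) {a b p q : G} (ha : a ∈ D) (hb : b ∈ Nb D a)
    (hp : p ∈ D) (hq : q ∈ Nb D p) (he : p * q = a * b) : (p = a ∧ q = b) ∨ (p = b ∧ q = a) := by
  have key := same_or_disjoint T.good.grp hI (m := 2) (by norm_num) (by norm_num)
    (l := [p, q]) (l' := [a, b]) ⟨by simpa using Ne.symm hq.2.1, rfl, by simp [hp, hq.1],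
      by simp [Commute.refl, hq.2.2, hq.2.2.symm]⟩
    ⟨by simpa using Ne.symm hb.2.1, rfl, by simp [ha, hb.1],
      by simp [Commute.refl, hb.2.2, hb.2.2.symm]⟩ (by simpa using he)
  rcases key with h | ⟨h, -⟩
  swap
  · omega
  have h1 : p = a ∨ p = b := by simpa using (h p).1 (by simp)
  have h2 : q = a ∨ q = b := by simpa using (h q).1 (by simp)
  rcases h1 with h1 | h1 <;> rcases h2 with h2 | h2
  · exact absurd (h2.trans h1.symm) hq.2.1
  · exact Or.inl ⟨h1, h2⟩
  · exact Or.inr ⟨h1, h2⟩
  · exact absurd (h2.trans h1.symm) hq.2.1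

namespace Data

variable (T : Data D) (hprim : Cfsg.IsPrimitiveUnderConj D)
include T hprim

/-- The sign has the derived group as kernel. -/
theorem ker_eq {ε : G →* ℤˣ} (hε : ∀ s ∈ D, ε s = -1) : ε.ker = commutator G := by
  obtain ⟨h1, h2⟩ := T.layer_facts hprim
  rw [h1] at h2
  have hle : commutator G ≤ ε.ker := Abelianization.commutator_subset_ker ε
  refine (le_antisymm hle ?_).symm
  obtain ⟨d, hd, -⟩ := T.good.two
  have hne : ε.ker ≠ ⊤ := fun e => by
    have h := MonoidHom.mem_ker.1 (e ▸ Subgroup.mem_top d)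
    rw [hε d hd] at h
    exact absurd h (by decide)
  have hd2 := Subgroup.index_dvd_of_le hle
  rw [h2] at hd2
  rcases (Nat.dvd_prime Nat.prime_two).1 hd2 with h | h
  · exact absurd (Subgroup.index_eq_one.1 h) hne
  · have := Subgroup.relIndex_mul_index hle
    rw [h2, h] at this
    exact Subgroup.relIndex_eq_one.1 (by omega)

theorem even_of_two {a b : G} (ha : a ∈ D) (hb : b ∈ D) : a * b ∈ commutator G := by
  obtain ⟨ε, hε⟩ := T.exists_eps
  rw [← T.ker_eq hprim hε, MonoidHom.mem_ker, map_mul, hε a ha, hε b hb]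
  decide

theorem not_even {a : G} (ha : a ∈ D) : a ∉ commutator G := by
  obtain ⟨ε, hε⟩ := T.exists_eps
  rw [← T.ker_eq hprim hε, MonoidHom.mem_ker, hε a ha]
  decide

/-- The even part of a centralizer is the neighbourhood quotient. -/
theorem even_iso {x : G} (hx : x ∈ D) :
    ∃ θ : ↥(Subgroup.centralizer ({x} : Set G) ⊓ commutator G) ≃* NQ D x,
      ∀ (g : ↥(Subgroup.centralizer ({x} : Set G) ⊓ commutator G)) (u : G) (hu : u ∈ Nb D x)
        (hu' : (g : G) * u * (g : G)⁻¹ ∈ Nb D x), θ g * nimg hu * (θ g)⁻¹ = nimg hu' := by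
  have hH := centralizer_eq T.toSetting hx
  have hle : Subgroup.centralizer ({x} : Set G) ⊓ commutator G ≤ NH D x :=
    inf_le_left.trans hH.ge
  let θ₀ : ↥(Subgroup.centralizer ({x} : Set G) ⊓ commutator G) →* NQ D x :=
    (QuotientGroup.mk' (Subgroup.center ↥(NH D x))).comp (Subgroup.inclusion hle)
  obtain ⟨a, ha⟩ := exists_nb T.toSetting hx
  have hinj : Function.Injective θ₀ := by
    rw [injective_iff_map_eq_one]
    intro g hg
    have hcen : Cen D x (g : G) := (mk_eq_one_iff (Subgroup.inclusion hle g)).1 hg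
    rcases cen_mem T.toSetting hx ha (Subgroup.mem_centralizer_singleton_iff.1 g.2.1) hcen with e | e
    · exact Subtype.ext e
    · exact absurd (e ▸ g.2.2) (T.not_even hprim hx)
  have hsurj : Function.Surjective θ₀ := by
    intro q
    obtain ⟨w, rfl⟩ := QuotientGroup.mk_surjective q
    have hwx : (w : G) ∈ Subgroup.centralizer ({x} : Set G) := hH.le w.2
    obtain ⟨ε, hε⟩ := T.exists_eps
    rcases Int.units_eq_one_or (ε (w : G)) with e | e
    · exact ⟨⟨w, hwx, by rw [← T.ker_eq hprim hε]; exact e⟩, rfl⟩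
    · have hxc : x ∈ Subgroup.centralizer ({x} : Set G) := Subgroup.mem_centralizer_singleton_iff.2 rfl
      have h0 : ε ((w : G) * x) = 1 := by rw [map_mul, e, hε x hx]; decide
      refine ⟨⟨(w : G) * x, mul_mem hwx hxc, by rw [← T.ker_eq hprim hε]; exact h0⟩, ?_⟩
      show QuotientGroup.mk _ = QuotientGroup.mk w
      have hxH := mem_closure T.toSetting hx
      have hx1 : (QuotientGroup.mk (⟨x, hxH⟩ : ↥(NH D x)) : NQ D x) = 1 :=
        (QuotientGroup.eq_one_iff _).2 (Subgroup.mem_center_iff.2 fun k =>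
          Subtype.ext (Indep.Good.commute_closure k.2).eq)
      calc (QuotientGroup.mk _ : NQ D x) = QuotientGroup.mk (w * ⟨x, hxH⟩) := rfl
        _ = QuotientGroup.mk w := by rw [QuotientGroup.mk_mul, hx1, mul_one]
  exact ⟨MulEquiv.ofBijective θ₀ ⟨hinj, hsurj⟩, fun g u hu hu' => rfl⟩

/-- The even part of the centralizer of two commuting members. -/
theorem pair_group {a b : G} (ha : a ∈ D) (hb : b ∈ Nb D a) :
    Cfsg.IsQuasisimple ↥(commutator G ⊓ Subgroup.centralizer ({a, b} : Set G)) ∧
      Nonempty (↥(commutator G ⊓ Subgroup.centralizer ({a, b} : Set G)) ⧸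
        Subgroup.center ↥(commutator G ⊓ Subgroup.centralizer ({a, b} : Set G)) ≃* Cfsg.Spor.Fi22) ∧
      ∀ z ∈ commutator G ⊓ Subgroup.centralizer ({a, b} : Set G),
        (∀ k ∈ commutator G ⊓ Subgroup.centralizer ({a, b} : Set G), k * z = z * k) →
          z = 1 ∨ z = a * b := by
  have hG := T.good.grp
  set A := Subgroup.centralizer ({a} : Set G) ⊓ commutator G with hA
  set K := commutator G ⊓ Subgroup.centralizer ({a, b} : Set G) with hK
  obtain ⟨θ, hθ⟩ := T.even_iso hprim ha
  have hle : K ≤ A := fun g hg =>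
    ⟨Subgroup.mem_centralizer_singleton_iff.2 (Subgroup.mem_centralizer_iff.1 hg.2 a (by simp)).symm, hg.1⟩
  have hiff : ∀ g : ↥A, (g : G) ∈ K ↔ θ g ∈ Subgroup.centralizer ({nimg hb} : Set (NQ D a)) := by
    intro g
    have hga : (g : G) * a * (g : G)⁻¹ = a := fix_of_cen g.2.1
    have hu' : (g : G) * b * (g : G)⁻¹ ∈ Nb D a := by
      have := nb_conj hG (g : G) hb
      rwa [hga] at this
    have key := hθ g b hb hu'
    rw [Subgroup.mem_centralizer_singleton_iff]
    constructor
    · intro hg
      have e : (g : G) * b * (g : G)⁻¹ = b := by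
        rw [← Subgroup.mem_centralizer_iff.1 hg.2 b (by simp), mul_inv_cancel_right]
      rw [nimg_congr hu' hb e] at key
      exact mul_inv_eq_iff_eq_mul.1 key
    · intro hq
      rw [hq, mul_inv_cancel_right] at key
      have e := nimg_inj T.toSetting ha hb hu' key
      refine ⟨g.2.2, Subgroup.mem_centralizer_iff.2 fun y hy => ?_⟩
      simp only [Set.mem_insert_iff, Set.mem_singleton_iff] at hy
      rcases hy with rfl | rfl
      · exact (mul_inv_eq_iff_eq_mul.1 hga).symm
      · exact (mul_inv_eq_iff_eq_mul.1 e.symm).symm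
  have himg : (K.subgroupOf A).map θ.toMonoidHom
      = Subgroup.centralizer ({nimg hb} : Set (NQ D a)) := by
    ext q
    rw [Subgroup.mem_map_equiv, Subgroup.mem_subgroupOf, hiff, θ.apply_symm_apply]
  let φ : ↥K ≃* ↥(Subgroup.centralizer ({nimg hb} : Set (NQ D a))) :=
    (Subgroup.subgroupOfEquivOfLe hle).symm.trans
      ((θ.subgroupMap (K.subgroupOf A)).trans (MulEquiv.subgroupCongr himg))
  obtain ⟨hq, ⟨f⟩⟩ := Model.centralizer_quasi (T.model a ha) (nimg_mem hb)
  refine ⟨(Components.isQuasisimple_congr φ).2 hq,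
    ⟨(QuotientGroup.congr _ _ φ (Subgroup.ext fun z => ?_)).trans f⟩, fun z hz hzc => ?_⟩
  · refine Subgroup.mem_map_equiv.trans ?_
    rw [Subgroup.mem_center_iff, Subgroup.mem_center_iff]
    exact ⟨fun h k => φ.symm.injective (by simpa using h (φ.symm k)),
      fun h k => φ.injective (by simpa using h (φ k))⟩
  · have hab : a * b ∈ K := by
      refine ⟨T.even_of_two hprim ha hb.1, Subgroup.mem_centralizer_iff.2 fun y hy => ?_⟩
      simp only [Set.mem_insert_iff, Set.mem_singleton_iff] at hy
      rcases hy with rfl | rfl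
      · exact ((Commute.refl _).mul_right hb.2.2).eq
      · exact (hb.2.2.symm.mul_right (Commute.refl _)).eq
    have hzq : Commute (θ ⟨z, hle hz⟩) (nimg hb) :=
      Subgroup.mem_centralizer_singleton_iff.1 ((hiff ⟨z, hle hz⟩).1 hz)
    have hzall : ∀ r : NQ D a, Commute r (nimg hb) → Commute r (θ ⟨z, hle hz⟩) := by
      intro r hr
      have hk : ((θ.symm r : ↥A) : G) ∈ K := (hiff _).2 (by
        rw [θ.apply_symm_apply]; exact Subgroup.mem_centralizer_singleton_iff.2 hr.eq)
      have hcomm : Commute (θ.symm r) ⟨z, hle hz⟩ := Subtype.ext (hzc _ hk)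
      simpa using hcomm.map θ.toMonoidHom
    have himgab : θ ⟨a * b, hle hab⟩ = nimg hb := by
      have hcen : Commute (θ ⟨a * b, hle hab⟩) (nimg hb) :=
        Subgroup.mem_centralizer_singleton_iff.1 ((hiff ⟨a * b, hle hab⟩).1 hab)
      have hall : ∀ r : NQ D a, Commute r (nimg hb) → Commute r (θ ⟨a * b, hle hab⟩) := by
        intro r hr
        have hk : ((θ.symm r : ↥A) : G) ∈ K := (hiff _).2 (by
          rw [θ.apply_symm_apply]; exact Subgroup.mem_centralizer_singleton_iff.2 hr.eq)
        have hc1 := Subgroup.mem_centralizer_iff.1 hk.2 a (by simp)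
        have hc2 := Subgroup.mem_centralizer_iff.1 hk.2 b (by simp)
        have hcomm : Commute (θ.symm r) ⟨a * b, hle hab⟩ :=
          Subtype.ext ((Commute.mul_right (show Commute ((θ.symm r : ↥A) : G) a from hc1.symm)
            (show Commute ((θ.symm r : ↥A) : G) b from hc2.symm))).eq
        simpa using hcomm.map θ.toMonoidHom
      refine (Model.center_closure (T.model a ha) (nimg_mem hb) hcen hall).resolve_left fun e => ?_
      have h1 : a * b = 1 := congrArg Subtype.val (θ.injective (e.trans (map_one θ).symm))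
      exact hb.2.1 (by rw [eq_inv_of_mul_eq_one_right h1, inv_eq hG ha])
    rcases Model.center_closure (T.model a ha) (nimg_mem hb) hzq hzall with e | e
    · exact Or.inl (congrArg Subtype.val (θ.injective (e.trans (map_one θ).symm)))
    · exact Or.inr (congrArg Subtype.val (θ.injective (e.trans himgab.symm)))

/-- An even element exchanges two commuting members. -/
theorem exists_swap {a b : G} (ha : a ∈ D) (hb : b ∈ Nb D a) :
    ∃ g ∈ commutator G, g * a * g⁻¹ = b ∧ g * b * g⁻¹ = a := by
  have hG := T.good.grp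
  obtain ⟨c, hc, hca, hcb, -⟩ := T.far a ha b hb.1 a ha a ha a ha
  have e := hb.2.2.eq
  refine ⟨c * (a * b) * c, ?_, move hG ha hb.1 hc hb.2.2 (fun h => hca h.symm) (fun h => hcb h.symm), ?_⟩
  · have hn : (commutator G).Normal := inferInstance
    have := hn.conj_mem _ (T.even_of_two hprim ha hb.1) c
    rwa [inv_eq hG hc] at this
  · rw [e]
    exact move hG hb.1 ha hc hb.2.2.symm (fun h => hcb h.symm) (fun h => hca h.symm)

/-- No element exchanging two commuting members fixes the even part of their centralizer. -/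
theorem swap_moves (hI : Indep.Ind D 6) {a b w : G} (ha : a ∈ D) (hb : b ∈ Nb D a)
    (hwa : w * a * w⁻¹ = b)
    (hcen : ∀ k ∈ commutator G ⊓ Subgroup.centralizer ({a, b} : Set G), k * w = w * k) : False := by
  have hG := T.good.grp
  obtain ⟨u, hua, hub⟩ : ∃ u, u ∈ Nb D a ∧ u ∈ Nb D b := by
    obtain ⟨u, hu⟩ : (Nb D a ∩ Nb D b).Nonempty :=
      Set.nonempty_of_ncard_ne_zero (by rw [card_common T.toSetting ha hb]; norm_num)
    exact ⟨u, hu.1, hu.2⟩
  have hk : a * u ∈ commutator G ⊓ Subgroup.centralizer ({a, b} : Set G) := by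
    refine ⟨T.even_of_two hprim ha hua.1, Subgroup.mem_centralizer_iff.2 fun y hy => ?_⟩
    simp only [Set.mem_insert_iff, Set.mem_singleton_iff] at hy
    rcases hy with rfl | rfl
    · exact ((Commute.refl _).mul_right hua.2.2).eq
    · exact (hb.2.2.symm.mul_right hub.2.2).eq
  have e : b * (w * u * w⁻¹) = a * u := by
    rw [← hwa]
    calc w * a * w⁻¹ * (w * u * w⁻¹) = w * (a * u) * w⁻¹ := by group
      _ = a * u := by rw [← hcen _ hk, mul_inv_cancel_right]
  have hq : w * u * w⁻¹ ∈ Nb D b := hwa ▸ nb_conj hG w hua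
  rcases factor_two T hI ha hua hb.1 hq e with ⟨e1, -⟩ | ⟨e1, -⟩
  · exact hb.2.1 e1
  · exact hub.2.1 e1.symm

end Data

end CfsgLib.ThreeTransp.TypeTwentyFour
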