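import Cfsg.Agent.Lib.ThreeTransp.TypeTwentyFour.Base
import Cfsg.Agent.Lib.ThreeTransp.TypeTwentyFour.Model

/-!
# The centralizer of a member of a group of type M(24)

With the neighbourhood quotient identified with Fi23, an element fixing a member and all its
neighbours is the identity or the member, the centralizer of a member is generated by its
neighbours, and it is twice as large as Fi23.
-/

set_option autoImplicit false
set_option linter.unusedSectionVars false
set_option linter.style.haveILetI false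

namespace CfsgLib.ThreeTransp.TypeTwentyFour

open CfsgLib.Sporadic FischerTransitivity Relation Indep

variable {G : Type*} [Group G] {D : Set G}

/-- The standing facts with the neighbourhood quotients identified. -/
structure Setting (D : Set G) : Prop where
  good : Indep.Good D
  sep : ∀ x ∈ D, SepAt D x
  model : ∀ x ∈ D, FiTransfer23.ModelIso (NQ D x) (ND D x)

theorem nimg_congr {x a b : G} (ha : a ∈ Nb D x) (hb : b ∈ Nb D x) (e : a = b) :
    nimg ha = nimg hb := by
  subst e; rfl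

/-- An element carrying `x` to `y` carries the neighbourhood quotient of `x` to that of `y`. -/
theorem transport (hG : Cfsg.IsThreeTranspositionGroup D) {x y : G} (g : G)
    (hg : g * x * g⁻¹ = y) :
    ∃ φ : NQ D x ≃* NQ D y, ∀ (a : G) (ha : a ∈ Nb D x) (hb : g * a * g⁻¹ ∈ Nb D y),
      φ (nimg ha) = nimg hb := by
  subst hg
  have himg : (NH D x).map (MulAut.conj g).toMonoidHom = NH D (g * x * g⁻¹) := by
    rw [NH, MonoidHom.map_closure, NH, ← FischerRankThree.nb_image hG]
    rfl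
  let φ : ↥(NH D x) ≃* ↥(NH D (g * x * g⁻¹)) :=
    ((MulAut.conj g).subgroupMap (NH D x)).trans (MulEquiv.subgroupCongr himg)
  refine ⟨QuotientGroup.congr (Subgroup.center ↥(NH D x))
    (Subgroup.center ↥(NH D (g * x * g⁻¹))) φ (Subgroup.ext fun z => ?_), fun a ha hb => rfl⟩
  refine Subgroup.mem_map_equiv.trans ?_
  rw [Subgroup.mem_center_iff, Subgroup.mem_center_iff]
  exact ⟨fun h k => φ.symm.injective (by simpa using h (φ.symm k)),
    fun h k => φ.injective (by simpa using h (φ k))⟩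

/-- The identification at one member gives it at all. -/
theorem model_all (hG : Cfsg.IsThreeTranspositionGroup D)
    (hcls : ∀ a ∈ D, ∀ b ∈ D, ∃ g : G, g * a * g⁻¹ = b) {d : G} (hd : d ∈ D)
    (hm : FiTransfer23.ModelIso (NQ D d) (ND D d)) :
    ∀ x ∈ D, FiTransfer23.ModelIso (NQ D x) (ND D x) := by
  intro x hx
  obtain ⟨g, hg⟩ := hcls x hx d hd
  obtain ⟨φ, hφ⟩ := transport hG g hg
  obtain ⟨e, he⟩ := hm
  refine ⟨φ.trans e, ?_⟩
  rw [MulEquiv.coe_trans, Set.image_comp, ← he]
  congr 1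
  refine Set.Subset.antisymm ?_ ?_
  · rintro _ ⟨q, hq, rfl⟩
    obtain ⟨a, ha, rfl⟩ := exists_nimg hq
    have hb : g * a * g⁻¹ ∈ Nb D d := hg ▸ nb_conj hG g ha
    rw [hφ a ha hb]
    exact nimg_mem hb
  · intro q hq
    obtain ⟨b, hb, rfl⟩ := exists_nimg hq
    have ha : g⁻¹ * b * g ∈ Nb D x := mem_nb_conj hG (hg.symm ▸ hb)
    have hb' : g * (g⁻¹ * b * g) * g⁻¹ ∈ Nb D d := by
      rwa [show g * (g⁻¹ * b * g) * g⁻¹ = b by group]
    exact ⟨_, nimg_mem ha, (hφ _ ha hb').trans (nimg_congr hb' hb (by group))⟩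

variable [Finite G] (S : Setting D)
include S

theorem inj {x : G} (hx : x ∈ D) : InjAt D x := S.good.injAt S.sep hx

theorem nimg_inj {x a b : G} (hx : x ∈ D) (ha : a ∈ Nb D x) (hb : b ∈ Nb D x)
    (h : nimg ha = nimg hb) : a = b :=
  inj S hx a ha b hb ((nimg_eq_iff S.good.grp ha hb).1 h)

theorem card_ndset {x : G} (hx : x ∈ D) (s : Set G) (hs : s ⊆ Nb D x) :
    {q : NQ D x | ∃ (a : G) (ha : a ∈ Nb D x), a ∈ s ∧ nimg ha = q}.ncard = s.ncard := by
  rw [← Nat.card_coe_set_eq, ← Nat.card_coe_set_eq]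
  refine (Nat.card_congr (Equiv.ofBijective
    (fun a : ↥s => (⟨nimg (hs a.2), a, hs a.2, a.2, rfl⟩ :
      ↥{q : NQ D x | ∃ (a : G) (ha : a ∈ Nb D x), a ∈ s ∧ nimg ha = q})) ⟨?_, ?_⟩)).symm
  · intro a b h
    exact Subtype.ext (nimg_inj S hx (hs a.2) (hs b.2) (congrArg Subtype.val h))
  · rintro ⟨q, a, ha, has, rfl⟩
    exact ⟨⟨a, has⟩, rfl⟩

/-- The neighbours. -/
theorem card_nb {x : G} (hx : x ∈ D) : (Nb D x).ncard = 31671 := by
  rw [← Model.card_set (S.model x hx), ← card_ndset S hx (Nb D x) subset_rfl]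
  congr 1
  ext q
  exact ⟨fun ⟨a, ha, _, e⟩ => e ▸ nimg_mem ha,
    fun h => by obtain ⟨a, ha, rfl⟩ := exists_nimg h; exact ⟨a, ha, ha, rfl⟩⟩

/-- The common neighbours of commuting members map onto the neighbours of the image. -/
theorem nb_nimg {x u : G} (hx : x ∈ D) (hu : u ∈ Nb D x) :
    {q : NQ D x | ∃ (a : G) (ha : a ∈ Nb D x), a ∈ Nb D x ∩ Nb D u ∧ nimg ha = q}
      = Nb (ND D x) (nimg hu) := by
  ext q
  constructor
  · rintro ⟨a, ha, ⟨-, hau⟩, rfl⟩
    exact ⟨nimg_mem ha, fun e => hau.2.1 (nimg_inj S hx ha hu e),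
      (nimg_commute_iff S.good.grp hu ha).2 hau.2.2⟩
  · rintro ⟨hq, hne, hc⟩
    obtain ⟨a, ha, rfl⟩ := exists_nimg hq
    exact ⟨a, ha, ⟨ha, ha.1, fun e => hne (nimg_congr ha hu e),
      (nimg_commute_iff S.good.grp hu ha).1 hc⟩, rfl⟩

/-- Two commuting members have 3510 common neighbours. -/
theorem card_common {x u : G} (hx : x ∈ D) (hu : u ∈ Nb D x) :
    (Nb D x ∩ Nb D u).ncard = 3510 := by
  rw [← Model.card_nb_of (S.model x hx) (nimg_mem hu), ← nb_nimg S hx hu,
    card_ndset S hx _ Set.inter_subset_left]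

/-- Only the identity and the member fix the member and all its neighbours. -/
theorem cen_mem {x a k : G} (hx : x ∈ D) (ha : a ∈ Nb D x) (hk : Commute k x)
    (hcen : Cen D x k) : k = 1 ∨ k = x := by
  have hG := S.good.grp
  have hxa : x ∈ Nb D a := FischerLines.nb_symm hx ha
  have hka : k * a * k⁻¹ = a := by rw [(hcen a ha).eq, mul_inv_cancel_right]
  obtain ⟨φ, hφ⟩ := transport hG k hka
  obtain ⟨q, hq⟩ := Model.aut_inner (S.model a ha.1) φ
  have hfix : ∀ u (hu : u ∈ Nb D a), Commute k u → Commute q (nimg hu) := by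
    intro u hu hc
    have e : k * u * k⁻¹ = u := by rw [hc.eq, mul_inv_cancel_right]
    have h1 := hφ u hu (e.symm ▸ hu)
    rw [hq, MulAut.conj_apply, nimg_congr (e.symm ▸ hu) hu e] at h1
    exact mul_inv_eq_iff_eq_mul.1 h1
  have hmodel := S.model a ha.1
  have hqp : Commute q (nimg hxa) := hfix x hxa hk
  have hall : ∀ r : NQ D a, Commute r (nimg hxa) → Commute r q := by
    intro r hr
    have hr' : r ∈ Subgroup.closure (Nb (ND D a) (nimg hxa)) := by
      rw [Model.centralizer_eq hmodel (nimg_mem hxa), Subgroup.mem_centralizer_singleton_iff]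
      exact hr.eq
    clear hr
    induction hr' using Subgroup.closure_induction with
    | mem e he =>
      rw [← nb_nimg S ha.1 hxa] at he
      obtain ⟨u, hu, ⟨-, hux⟩, rfl⟩ := he
      exact (hfix u hu (hcen u hux)).symm
    | one => exact Commute.one_left q
    | mul _ _ _ _ e1 e2 => exact e1.mul_left e2
    | inv _ _ e1 => exact e1.inv_left
  have finish : ∀ k' : G, Cen D x k' → (∀ u (hu : u ∈ Nb D a) (hu' : k' * u * k'⁻¹ ∈ Nb D a),
      nimg hu' = nimg hu) → k' * a * k'⁻¹ = a → k' = 1 := by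
    intro k' hcx himg hfa
    refine S.good.eq_one_of_nb hx ha (fun u hu => (hcx u hu).symm) fun u hu => ?_
    have hu' : k' * u * k'⁻¹ ∈ Nb D a := hfa ▸ nb_conj hG k' hu
    exact (mul_inv_eq_iff_eq_mul.1 (nimg_inj S ha.1 hu' hu (himg u hu hu'))).symm
  rcases Model.center_closure hmodel (nimg_mem hxa) hqp hall with e | e
  · refine Or.inl (finish k hcen (fun u hu hu' => ?_) hka)
    rw [← hφ u hu hu', hq, e, map_one]; rfl
  · right
    have hxx : x * x = 1 := sq hG hx
    have hkey : x * k = 1 := by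
      refine finish (x * k) (fun u hu => hu.2.2.mul_left (hcen u hu)) (fun u hu hu' => ?_) ?_
      · have hu1 : k * u * k⁻¹ ∈ Nb D a := hka ▸ nb_conj hG k hu
        have h1 := hφ u hu hu1
        rw [hq, e, MulAut.conj_apply] at h1
        have hxu : x * (k * u * k⁻¹) * x⁻¹ ∈ Nb D a := by
          rw [show x * (k * u * k⁻¹) * x⁻¹ = (x * k) * u * (x * k)⁻¹ by group]; exact hu'
        rw [nimg_congr hu' hxu (by group)]
        have h2 : nimg hxu = nimg hxa * nimg hu1 * (nimg hxa)⁻¹ := rfl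
        rw [h2, ← h1]
        have hp2 : nimg hxa * nimg hxa = 1 := nimg_sq hG hxa
        rw [inv_eq_of_mul_eq_one_right hp2]
        calc nimg hxa * (nimg hxa * nimg hu * nimg hxa) * nimg hxa
            = (nimg hxa * nimg hxa) * nimg hu * (nimg hxa * nimg hxa) := by simp only [mul_assoc]
          _ = nimg hu := by rw [hp2, one_mul, mul_one]
      · rw [mul_inv_rev, show x * k * a * (k⁻¹ * x⁻¹) = x * (k * a * k⁻¹) * x⁻¹ by group, hka,
          ha.2.2.eq, mul_inv_cancel_right]
    rw [eq_inv_of_mul_eq_one_right hkey, inv_eq hG hx]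

theorem exists_nb {x : G} (hx : x ∈ D) : (Nb D x).Nonempty := by
  refine Set.nonempty_of_ncard_ne_zero ?_
  rw [card_nb S hx]; norm_num

/-- A member lies in the group generated by its neighbours. -/
theorem mem_closure {x : G} (hx : x ∈ D) : x ∈ Subgroup.closure (Nb D x) := by
  have hG := S.good.grp
  obtain ⟨a, ha⟩ := exists_nb S hx
  have hxa : x ∈ Nb D a := FischerLines.nb_symm hx ha
  have hset : Nb (ND D a) (nimg hxa) = (QuotientGroup.mk' (Subgroup.center ↥(NH D a))) ''
      {w : ↥(NH D a) | (w : G) ∈ Nb D a ∧ (w : G) ∈ Nb D x} := by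
    rw [← nb_nimg S ha.1 hxa]
    ext q
    constructor
    · rintro ⟨u, hu, hu2, rfl⟩
      exact ⟨⟨u, Subgroup.subset_closure hu⟩, hu2, rfl⟩
    · rintro ⟨⟨u, h1⟩, hu2, rfl⟩
      exact ⟨u, hu2.1, hu2, rfl⟩
  have hp := Model.mem_closure_nb (S.model a ha.1) (nimg_mem hxa)
  rw [hset, ← MonoidHom.map_closure] at hp
  obtain ⟨w, hw, hwp⟩ := hp
  have hwx : (w : G) ∈ Subgroup.closure (Nb D x) := by
    have : Subgroup.closure {w : ↥(NH D a) | (w : G) ∈ Nb D a ∧ (w : G) ∈ Nb D x}
        ≤ (Subgroup.closure (Nb D x)).comap (NH D a).subtype :=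
      (Subgroup.closure_le _).2 fun v hv => Subgroup.subset_closure hv.2
    exact this hw
  have hz : Cen D a (x⁻¹ * (w : G)) := by
    refine (mk_eq_one_iff ((⟨x, Subgroup.subset_closure hxa⟩ : ↥(NH D a))⁻¹ * w)).1 ?_
    rw [QuotientGroup.mk_mul, QuotientGroup.mk_inv]
    exact inv_mul_eq_one.2 hwp.symm
  have hza : Commute (x⁻¹ * (w : G)) a :=
    (hxa.2.2.symm.inv_left).mul_left (Good.commute_closure w.2)
  rcases cen_mem S ha.1 hxa hza hz with e | e
  · convert hwx using 1
    exact inv_mul_eq_one.1 e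
  · convert mul_mem hwx (inv_mem (Subgroup.subset_closure ha)) using 1
    calc x = (w : G) * (x⁻¹ * (w : G))⁻¹ := by group
      _ = (w : G) * a⁻¹ := by rw [e]

/-- The centralizer of a member is generated by its neighbours. -/
theorem centralizer_eq {x : G} (hx : x ∈ D) :
    Subgroup.closure (Nb D x) = Subgroup.centralizer ({x} : Set G) := by
  have hG := S.good.grp
  refine le_antisymm ((Subgroup.closure_le _).2 fun y hy =>
    Subgroup.mem_centralizer_singleton_iff.2 hy.2.2.symm.eq) fun g hg => ?_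
  have hgx : g * x * g⁻¹ = x := by
    rw [Subgroup.mem_centralizer_singleton_iff.1 hg, mul_inv_cancel_right]
  obtain ⟨φ, hφ⟩ := transport hG g hgx
  obtain ⟨q, hq⟩ := Model.aut_inner (S.model x hx) φ
  obtain ⟨w, rfl⟩ := QuotientGroup.mk_surjective q
  obtain ⟨a, ha⟩ := exists_nb S hx
  have hk : Cen D x ((w : G)⁻¹ * g) := by
    intro u hu
    have hu1 : g * u * g⁻¹ ∈ Nb D x := hgx ▸ nb_conj hG g hu
    have hwx : (w : G) * x * (w : G)⁻¹ = x := FischerNeighbourhood.fixes hG w.2
    have hu2 : (w : G) * u * (w : G)⁻¹ ∈ Nb D x := by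
      have := nb_conj hG (w : G) hu
      rwa [hwx] at this
    have h1 := hφ u hu hu1
    rw [hq, MulAut.conj_apply] at h1
    have h2 : nimg hu2 = (QuotientGroup.mk w : NQ D x) * nimg hu * (QuotientGroup.mk w)⁻¹ := rfl
    have h3 := nimg_inj S hx hu2 hu1 (h2.trans h1)
    have h4 : ((w : G)⁻¹ * g) * u * ((w : G)⁻¹ * g)⁻¹ = u :=
      calc ((w : G)⁻¹ * g) * u * ((w : G)⁻¹ * g)⁻¹ = (w : G)⁻¹ * (g * u * g⁻¹) * w := by group
        _ = (w : G)⁻¹ * ((w : G) * u * (w : G)⁻¹) * w := by rw [h3]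
        _ = u := by group
    exact mul_inv_eq_iff_eq_mul.1 h4
  have hkx : Commute ((w : G)⁻¹ * g) x :=
    (Good.commute_closure w.2).inv_left.mul_left (Subgroup.mem_centralizer_singleton_iff.1 hg)
  rcases cen_mem S hx ha hkx hk with e | e
  · rw [← inv_mul_eq_one.1 e]; exact w.2
  · convert mul_mem w.2 (mem_closure S hx) using 1
    calc g = (w : G) * ((w : G)⁻¹ * g) := by group
      _ = (w : G) * x := by rw [e]

/-- The centre of the centralizer. -/
theorem card_center {x : G} (hx : x ∈ D) : Nat.card (Subgroup.center ↥(NH D x)) = 2 := by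
  obtain ⟨a, ha⟩ := exists_nb S hx
  have hxH := mem_closure S hx
  rw [Nat.card_eq_two_iff' (1 : Subgroup.center ↥(NH D x))]
  refine ⟨⟨⟨x, hxH⟩, Subgroup.mem_center_iff.2 fun k => Subtype.ext
    (Good.commute_closure k.2).eq⟩, fun e => ?_, fun z hz => ?_⟩
  · have h1 : x = 1 := congrArg (fun z : Subgroup.center ↥(NH D x) => ((z : ↥(NH D x)) : G)) e
    have := S.good.grp.1.1 x hx
    rw [h1, orderOf_one] at this
    omega
  · have hcen : Cen D x ((z : ↥(NH D x)) : G) := fun u hu =>
      (congrArg Subtype.val (Subgroup.mem_center_iff.1 z.2 ⟨u, Subgroup.subset_closure hu⟩)).symm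
    rcases cen_mem S hx ha (Good.commute_closure z.1.2) hcen with e | e
    · exact absurd (Subtype.ext (Subtype.ext e)) hz
    · exact Subtype.ext (Subtype.ext e)

/-- The order of the centralizer. -/
theorem card_centralizer {x : G} (hx : x ∈ D) :
    Nat.card (Subgroup.centralizer ({x} : Set G)) = 8178940946586009600 := by
  rw [← centralizer_eq S hx, Subgroup.card_eq_card_quotient_mul_card_subgroup
    (Subgroup.center ↥(NH D x)), Model.card_group (S.model x hx), card_center S hx]

end CfsgLib.ThreeTransp.TypeTwentyFour
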