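import Cfsg.Agent.Lib.ThreeTransp.TypeTwentyFour.Sign
import Cfsg.Agent.Lib.ThreeTransp.TypeTwentyFour.Count
import Cfsg.Agent.Lib.ThreeTransp.Width

/-!
# Order, sign and width of a group of type M(24)

The identification of the groups of type M(23) with Fi23 enters as a hypothesis on the
neighbourhood quotient of one member.
-/

set_option autoImplicit false
set_option linter.unusedSectionVars false
set_option linter.style.haveILetI false

namespace CfsgLib.ThreeTransp.TypeTwentyFour

open CfsgLib.Sporadic FischerTransitivity Relation Indep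

variable {G : Type*} [Group G] [Finite G] {D : Set G}

/-- Everything about the numbers. -/
structure Data (D : Set G) : Prop extends Setting D where
  card_set : D.ncard = 306936
  mu : ∀ x ∈ D, ∀ y ∈ D, ¬ Commute x y → (Nb D x ∩ Nb D y).ncard = 3240

/-- The identification at one member gives all the numbers. -/
theorem data_of_model (hG : Cfsg.IsThreeTranspositionGroup D)
    (hprim : Cfsg.IsPrimitiveUnderConj D) (h24 : Cfsg.IsOfTypeM24 G D)
    (hmodel : ∀ x ∈ D, Cfsg.IsThreeTranspositionGroup (ND D x) →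
      Cfsg.IsPrimitiveUnderConj (ND D x) → Cfsg.IsOfTypeM23 (NQ D x) (ND D x) →
      FiTransfer23.ModelIso (NQ D x) (ND D x)) : Data D := by
  obtain ⟨h, -, hsep, d, hd, c, hc, hdc, hG1, hgood, hprim1, h23, hcard⟩ := setup hG hprim h24
  have S : Setting D := ⟨h, hsep, model_all hG h.cls hd (hmodel d hd hG1 hprim1 h23)⟩
  obtain ⟨hn, hM⟩ := params S hd hc hdc hgood hcard
  refine ⟨S, hn, fun x hx y hy hxy => ?_⟩
  obtain ⟨g, hg⟩ := h.cls x hx d hd
  have hgy : ¬ Commute d (g * y * g⁻¹) := fun e => hxy ((Commute.conj_iff g).1 (hg.symm ▸ e))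
  obtain ⟨k, hk1, hk2⟩ := h.adj hd (hG.2.1 g y hy) hc hgy hdc
  have e1 : k * g * x * (k * g)⁻¹ = d :=
    calc k * g * x * (k * g)⁻¹ = k * (g * x * g⁻¹) * k⁻¹ := by group
      _ = d := by rw [hg, hk1]
  have e2 : k * g * y * (k * g)⁻¹ = c :=
    calc k * g * y * (k * g)⁻¹ = k * (g * y * g⁻¹) * k⁻¹ := by group
      _ = c := hk2
  have hinj : Function.Injective fun w => (k * g) * w * (k * g)⁻¹ :=
    fun _ _ e => mul_left_cancel (mul_right_cancel e)
  rw [← hM, ← e1, ← e2, ← FischerRankThree.nb_image hG, ← FischerRankThree.nb_image hG,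
    ← Set.image_inter hinj, Set.ncard_image_of_injective _ hinj]

namespace Data

variable (T : Data D)
include T

/-- The order of the group. -/
theorem card_group : Nat.card G = 2510411418381323442585600 := by
  obtain ⟨d, hd, -⟩ := T.good.two
  have h := card_orbit_mul (⊤ : Subgroup G) (Subgroup.centralizer ({d} : Set G)) le_top
    (fun g => g * d * g⁻¹) D (fun g _ => T.good.grp.2.1 g d hd)
    (fun x hx => by obtain ⟨g, hg⟩ := T.good.cls d hd x hx; exact ⟨g, Subgroup.mem_top g, hg⟩)
    (fun g _ k _ => by rw [conj_eq_iff, Subgroup.mem_centralizer_singleton_iff])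
  rw [Subgroup.card_top, T.card_set, card_centralizer T.toSetting hd] at h
  exact h

theorem card_commute {a : G} (ha : a ∈ D) : {v | v ∈ D ∧ Commute v a}.ncard = 31672 := by
  have : {v | v ∈ D ∧ Commute v a} = insert a (Nb D a) := by
    ext v
    simp only [Set.mem_ofPred_eq, Set.mem_insert_iff]
    constructor
    · rintro ⟨hv, hc⟩
      by_cases e : v = a
      · exact Or.inl e
      · exact Or.inr ⟨hv, e, hc.symm⟩
    · rintro (rfl | h)
      · exact ⟨ha, Commute.refl _⟩
      · exact ⟨h.1, h.2.2.symm⟩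
  rw [this, Set.ncard_insert_of_notMem (fun h => h.2.1 rfl) (Set.toFinite _),
    card_nb T.toSetting ha]

/-- Five members have a common non-commuting partner. -/
theorem far : ∀ a ∈ D, ∀ b ∈ D, ∀ c ∈ D, ∀ e ∈ D, ∀ f ∈ D, ∃ v ∈ D,
    ¬ Commute v a ∧ ¬ Commute v b ∧ ¬ Commute v c ∧ ¬ Commute v e ∧ ¬ Commute v f := by
  intro a ha b hb c hc e he f hf
  by_contra hno
  push Not at hno
  let A : G → Set G := fun z => {v | v ∈ D ∧ Commute v z}
  have hsub : D ⊆ A a ∪ A b ∪ A c ∪ A e ∪ A f := fun v hv => by
    simp only [A, Set.mem_union, Set.mem_ofPred_eq, hv, true_and]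
    by_contra hn
    simp only [not_or] at hn
    exact hn.2 (hno v hv hn.1.1.1.1 hn.1.1.1.2 hn.1.1.2 hn.1.2)
  have h1 := Set.ncard_le_ncard hsub (Set.toFinite _)
  have h2 := Set.ncard_union_le (A a) (A b)
  have h3 := Set.ncard_union_le (A a ∪ A b) (A c)
  have h4 := Set.ncard_union_le (A a ∪ A b ∪ A c) (A e)
  have h5 := Set.ncard_union_le (A a ∪ A b ∪ A c ∪ A e) (A f)
  have e1 : (A a).ncard = 31672 := T.card_commute ha
  have e2 : (A b).ncard = 31672 := T.card_commute hb
  have e3 : (A c).ncard = 31672 := T.card_commute hc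
  have e4 : (A e).ncard = 31672 := T.card_commute he
  have e5 : (A f).ncard = 31672 := T.card_commute hf
  rw [T.card_set] at h1
  omega

/-- The character of a centralizer. -/
theorem exists_local_sign {d : G} (hd : d ∈ D) :
    ∃ ψ : ↥(Subgroup.centralizer ({d} : Set G)) →* ℤˣ,
      ∀ s : ↥(Subgroup.centralizer ({d} : Set G)), (s : G) ∈ D → ψ s = -1 := by
  classical
  have hG := T.good.grp
  have hH := centralizer_eq T.toSetting hd
  have hdH := mem_closure T.toSetting hd
  have hZ := card_center T.toSetting hd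
  haveI := Model.simple (T.model d hd)
  set π := QuotientGroup.mk' (Subgroup.center ↥(NH D d)) with hπ
  have hker : π.ker = Subgroup.center ↥(NH D d) := QuotientGroup.ker_mk' _
  have hπ1 : Function.Surjective π := QuotientGroup.mk'_surjective _
  have hperf : commutator (NQ D d) = ⊤ := by
    refine ((inferInstance : (commutator (NQ D d)).Normal).eq_bot_or_eq_top).resolve_left ?_
    intro h
    have hc : ∀ a b : NQ D d, a * b = b * a := fun a b => by
      rw [← commutatorElement_eq_one_iff_mul_comm, ← Subgroup.mem_bot, ← h]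
      exact Subgroup.commutator_mem_commutator (Subgroup.mem_top a) (Subgroup.mem_top b)
    letI : CommGroup (NQ D d) := { (inferInstance : Group (NQ D d)) with mul_comm := hc }
    have hp : (Nat.card (NQ D d)).Prime := IsSimpleGroup.prime_card
    rw [Model.card_group (T.model d hd)] at hp
    exact absurd hp (by norm_num)
  set K := commutator ↥(NH D d) with hK
  have hnot : ¬ Subgroup.center ↥(NH D d) ≤ K := by
    intro hle
    have := Model.stem_trivial (T.model d hd) (σ := π) ⟨hπ1, hker.le, hker.trans_le hle⟩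
    rw [hker] at this
    rw [this, Subgroup.card_bot] at hZ
    omega
  have hsup : K ⊔ Subgroup.center ↥(NH D d) = ⊤ := by
    rw [← hker, ← Subgroup.comap_map_eq, hK]
    rw [show (commutator ↥(NH D d)).map π = commutator (NQ D d) from by
      rw [map_commutator_eq, MonoidHom.range_eq_top.2 hπ1, commutator_def],
      hperf, Subgroup.comap_top]
  have hdisj : Disjoint K (Subgroup.center ↥(NH D d)) := by
    rw [disjoint_iff, Subgroup.eq_bot_iff_forall]
    rintro z ⟨hz1, hz2⟩
    by_contra hz
    refine hnot fun w hw => ?_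
    rcases eq_or_ne w 1 with rfl | hw1
    · exact one_mem _
    obtain ⟨u, -, hu⟩ := (Nat.card_eq_two_iff' (1 : Subgroup.center ↥(NH D d))).1 hZ
    have e := (hu ⟨w, hw⟩ fun e => hw1 (congrArg Subtype.val e)).trans
      (hu ⟨z, hz2⟩ fun e => hz (congrArg Subtype.val e)).symm
    rw [show w = z from congrArg Subtype.val e]
    exact hz1
  have hidx : K.index = 2 := by
    rw [(Subgroup.isComplement'_of_disjoint_and_mul_eq_univ hdisj (by
      rw [← Subgroup.normal_mul, hsup, Subgroup.coe_top])).symm.index_eq_card, hZ]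
  let φ : ↥(NH D d) →* ℤˣ :=
    { toFun := fun g => if g ∈ K then 1 else -1
      map_one' := if_pos K.one_mem
      map_mul' := fun a b => by
        have := Subgroup.mul_mem_iff_of_index_two hidx (a := a) (b := b)
        by_cases ha : a ∈ K <;> by_cases hb : b ∈ K <;> simp [this, ha, hb] }
  have hdK : (⟨d, hdH⟩ : ↥(NH D d)) ∉ K := fun h => by
    have hdc : (⟨d, hdH⟩ : ↥(NH D d)) ∈ Subgroup.center ↥(NH D d) :=
      Subgroup.mem_center_iff.2 fun k => Subtype.ext (Good.commute_closure k.2).eq
    have := congrArg Subtype.val (Subgroup.disjoint_def.1 hdisj h hdc)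
    have ho := hG.1.1 d hd
    rw [show d = 1 from this, orderOf_one] at ho
    omega
  have hall : ∀ u (hu : u ∈ Nb D d), (⟨u, Subgroup.subset_closure hu⟩ : ↥(NH D d)) ∉ K := by
    intro u hu huK
    refine hdK ?_
    have hgen : ∀ g : ↥(NH D d), g ∈ K := by
      rintro ⟨g, hg⟩
      induction hg using Subgroup.closure_induction with
      | mem v hv =>
        obtain ⟨k, hk, e⟩ := T.good.nbtr hd hu hv
        have := (inferInstance : K.Normal).conj_mem _ huK ⟨k, hk⟩
        convert this using 1
        exact Subtype.ext e.symm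
      | one => exact one_mem K
      | mul a b ha hb e1 e2 => exact K.mul_mem e1 e2
      | inv a ha e1 => exact K.inv_mem e1
    exact hgen _
  refine ⟨φ.comp (MulEquiv.subgroupCongr hH.symm).toMonoidHom, fun s hs => ?_⟩
  show (if (MulEquiv.subgroupCongr hH.symm s : ↥(NH D d)) ∈ K then (1 : ℤˣ) else -1) = -1
  refine if_neg fun h => ?_
  have hsd : Commute (s : G) d := Subgroup.mem_centralizer_singleton_iff.1 s.2
  by_cases e : (s : G) = d
  · refine hdK ?_
    convert h using 1
    exact Subtype.ext e.symm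
  · refine hall s ⟨hs, e, hsd.symm⟩ ?_
    convert h using 1
    exact Subtype.ext rfl

/-- The sign. -/
theorem exists_eps : ∃ ε : G →* ℤˣ, ∀ s ∈ D, ε s = -1 := by
  obtain ⟨d, hd, -⟩ := T.good.two
  obtain ⟨ψ, hψ⟩ := T.exists_local_sign hd
  exact exists_sign T.good.grp hd T.good.cls T.far ψ hψ

/-- The layer is the derived group and has index two. -/
theorem layer_facts (hprim : Cfsg.IsPrimitiveUnderConj D) :
    Cfsg.layer G = commutator G ∧ (Cfsg.layer G).index = 2 := by
  have hG := T.good.grp
  obtain ⟨d, hd, -⟩ := T.good.two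
  obtain ⟨a, ha⟩ := exists_nb T.toSetting hd
  obtain ⟨h2, h3, hconn⟩ := FischerPrimitive.of_primitive hG hprim (exists_pair hd ha)
  obtain ⟨L, hL⟩ := FischerLayer.exists_component hG T.good.cls T.good.two h2 h3
  have hi := FischerLayer.index_le_two hG T.good.cls T.good.two hL hconn
  have heq := FischerLayer.layer_eq hG T.good.cls T.good.two hL
  have hc : commutator G = L := FischerPrimitive.commutator_eq hG T.good.cls T.good.two hL hi
  refine ⟨heq.trans hc.symm, heq ▸ ?_⟩
  obtain ⟨ε, hε⟩ := T.exists_eps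
  have hne : L.index ≠ 1 := fun h => by
    rw [Subgroup.index_eq_one, ← hc] at h
    have hd1 : ε d = 1 := by
      have hle : commutator G ≤ ε.ker := Abelianization.commutator_subset_ker ε
      exact hle (h ▸ Subgroup.mem_top d)
    rw [hε d hd] at hd1
    exact absurd hd1 (by decide)
  have : L.index ≠ 0 := Subgroup.index_ne_zero_of_finite
  omega

/-- The width is one more than that of a neighbourhood quotient. -/
theorem width {d : G} (hd : d ∈ D) (hw : Cfsg.commutingWidth (ND D d) = 23) :
    Cfsg.commutingWidth D = 24 := by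
  have hG := T.good.grp
  refine le_antisymm (Width.width_le fun E hE hc => ?_) ?_
  · rcases E.eq_empty_or_nonempty with rfl | ⟨x, hx⟩
    · simp
    have hxD := hE hx
    obtain ⟨g, hg⟩ := T.good.cls x hxD d hd
    set E' := (fun z => g * z * g⁻¹) '' E with hE'
    have hinj : Function.Injective fun z => g * z * g⁻¹ :=
      fun _ _ e => mul_left_cancel (mul_right_cancel e)
    have hdE : d ∈ E' := ⟨x, hx, hg⟩
    have hsub : E' \ {d} ⊆ Nb D d := by
      rintro _ ⟨⟨z, hz, rfl⟩, hne⟩
      exact ⟨hG.2.1 g z (hE hz), hne, hg ▸ (Commute.conj_iff g).2 (hc x hx z hz)⟩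
    have h1 := card_ndset T.toSetting hd _ hsub
    have h2 : {q : NQ D d | ∃ (a : G) (ha : a ∈ Nb D d), a ∈ E' \ {d} ∧ nimg ha = q}.ncard ≤ 23 := by
      rw [← hw]
      refine Width.le_width (fun q hq => ?_) fun p hp q hq => ?_
      · obtain ⟨a, ha, -, rfl⟩ := hq; exact nimg_mem ha
      · obtain ⟨a, ha, ⟨⟨z, hz, rfl⟩, -⟩, rfl⟩ := hp
        obtain ⟨b, hb, ⟨⟨w, hw', rfl⟩, -⟩, rfl⟩ := hq
        exact (nimg_commute_iff hG ha hb).2 ((Commute.conj_iff g).2 (hc z hz w hw'))
    rw [h1, Set.ncard_diff_singleton_of_mem hdE, hE', Set.ncard_image_of_injective _ hinj] at h2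
    omega
  · obtain ⟨E, hE, hc, hcard⟩ := Width.exists_max (ND D d)
    rw [hw] at hcard
    choose f hf hfq using fun q : ↥E => exists_nimg (hE q.2)
    have hfi : Function.Injective f := fun p q e =>
      Subtype.ext ((hfq p).symm.trans ((nimg_congr (hf p) (hf q) e).trans (hfq q)))
    have hcard' : (insert d (Set.range f)).ncard = 24 := by
      rw [Set.ncard_insert_of_notMem (by rintro ⟨q, hq⟩; exact (hf q).2.1 hq) (Set.toFinite _),
        Set.ncard_range_of_injective hfi, Nat.card_coe_set_eq, hcard]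
    rw [← hcard']
    refine Width.le_width (Set.insert_subset hd (Set.range_subset_iff.2 fun q => (hf q).1)) ?_
    rintro a (rfl | ⟨p, rfl⟩) b (rfl | ⟨q, rfl⟩)
    · exact Commute.refl _
    · exact (hf q).2.2
    · exact (hf p).2.2.symm
    · refine (nimg_commute_iff hG (hf p) (hf q)).1 ?_
      rw [hfq, hfq]
      exact hc _ p.2 _ q.2

end Data

end CfsgLib.ThreeTransp.TypeTwentyFour
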