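import Cfsg.Agent.Lib.Sporadic.FischerTransitivity

/-!
# Extending the sign from a transposition centralizer

If the centralizer of one member `d` has a character taking the value `-1` on every member and any
five members have a common non-commuting partner, the character extends to the whole group: the
product of the three transpositions along a triangle of the non-commuting graph is odd, as an odd
power of it is a member.
-/

set_option autoImplicit false

namespace CfsgLib.ThreeTransp.TypeTwentyFour

open CfsgLib.Sporadic.FischerTransitivity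

variable {G : Type*} [Group G] {D : Set G}

section
variable (hG : Cfsg.IsThreeTranspositionGroup D)
include hG

/-- The line element of two non-commuting members exchanges them. -/
theorem line_move {a b : G} (ha : a ∈ D) (hb : b ∈ D) (h : ¬ Commute a b) :
    cj (cj a b) a = b := by
  rw [cj_comm hG ha hb h, cj_cj_eq, cj_comm hG hb ha (fun e => h e.symm), cj_cj hG ha, cj_self hG hb]

/-- The product along a triangle fixes its base point and has an odd power which is a member. -/
theorem triangle {a b c : G} (ha : a ∈ D) (hb : b ∈ D) (hc : c ∈ D) (hab : ¬ Commute a b)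
    (hbc : ¬ Commute b c) (hca : ¬ Commute c a) :
    Commute (cj c a * cj b c * cj a b) a ∧
      ∃ n : ℕ, Odd n ∧ (cj c a * cj b c * cj a b) ^ n ∈ D := by
  set u := cj a b with hu
  set S := cj b c with hS
  set T := cj c a with hT
  have huD : u ∈ D := cj_mem hG ha hb
  have hSD : S ∈ D := cj_mem hG hb hc
  have hTD : T ∈ D := cj_mem hG hc ha
  have aa : ∀ x : G, a * (a * x) = x := fun x => by rw [← mul_assoc, sq hG ha, one_mul]
  have bb : ∀ x : G, b * (b * x) = x := fun x => by rw [← mul_assoc, sq hG hb, one_mul]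
  have cc : ∀ x : G, c * (c * x) = x := fun x => by rw [← mul_assoc, sq hG hc, one_mul]
  have eab : ∀ x : G, b * (a * (b * x)) = a * (b * (a * x)) := fun x => by
    have := cj_comm hG hb ha (fun e => hab e.symm)
    unfold cj at this
    simp only [← mul_assoc]; rw [this]
  have eca : cj c a = cj a c := cj_comm hG hc ha hca
  have hE : Commute (T * S * u) a := by
    have h1 : cj u a = b := line_move hG ha hb hab
    have h2 : cj S b = c := line_move hG hb hc hbc
    have h3 : cj T c = a := line_move hG hc ha hca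
    have h : (T * S * u) * a * (T * S * u)⁻¹ = a := by
      rw [mul_inv_rev, mul_inv_rev, inv_eq hG huD, inv_eq hG hSD, inv_eq hG hTD]
      calc T * S * u * a * (u * (S * T)) = cj T (cj S (cj u a)) := by simp only [cj, mul_assoc]
        _ = a := by rw [h1, h2, h3]
    exact mul_inv_eq_iff_eq_mul.1 h
  refine ⟨hE, ?_⟩
  set r := c * u with hr
  -- the triangle product is `(a r a) r a`
  have hX : T * S * u = (a * r * a) * r * a := by
    rw [hT, eca]
    simp only [hr, hu, hS, cj, mul_assoc, sq hG ha, mul_one]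
    rw [eab]
    simp only [sq hG ha, mul_one]
  set X := (a * r * a) * r with hXdef
  have hcomm : Commute (a * r * a) r := by
    have h1 : Commute X a := by
      have h2 := hE.mul_left (Commute.refl a)
      rwa [hX, mul_assoc X a a, sq hG ha, mul_one] at h2
    have h2 : a * X * a = X := by rw [← h1.eq, mul_assoc, sq hG ha, mul_one]
    show (a * r * a) * r = r * (a * r * a)
    rw [← hXdef]
    conv_lhs => rw [← h2]
    simp only [hXdef, mul_assoc, aa]
  rcases hG.1.2 c hc u huD with h2 | h3
  · -- the line element of `b, c` commutes with `a`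
    refine ⟨1, odd_one, ?_⟩
    rw [pow_one, hX]
    have h2' : c * (u * (c * u)) = 1 := by
      rw [← mul_assoc]; rwa [pow_two] at h2
    have hur : u * (c * u) = c := by
      calc u * (c * u) = c * (c * (u * (c * u))) := (cc _).symm
        _ = c := by rw [h2', mul_one]
    have huc : u * c = c * u := by
      calc u * c = u * (u * (c * u)) := by rw [hur]
        _ = c * u := by rw [← mul_assoc, sq hG huD, one_mul]
    suffices (a * r * a) * r * a = S by rw [this]; exact hSD
    calc (a * r * a) * r * a = a * (c * (u * (a * (c * (u * a))))) := by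
          simp only [hr, mul_assoc]
      _ = a * (u * (c * (a * (c * (u * a))))) := by
          rw [← mul_assoc c u, ← huc, mul_assoc]
      _ = a * (u * (cj c a * (u * a))) := by simp only [cj, mul_assoc]
      _ = S := by
          rw [eca]
          simp only [hu, hS, cj, mul_assoc, aa, sq hG ha, mul_one]
  · refine ⟨3, by decide, ?_⟩
    rw [hX]
    have h1 : Commute X a := by
      have h2 := hE.mul_left (Commute.refl a)
      rwa [hX, mul_assoc X a a, sq hG ha, mul_one] at h2
    rw [h1.mul_pow, hcomm.mul_pow, h3, mul_one,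
      show (a * r * a) ^ 3 = a * r ^ 3 * a⁻¹ by rw [← conj_pow, inv_eq hG ha],
      h3, mul_one, inv_eq hG ha, sq hG ha, one_mul,
      show a ^ 3 = a by rw [pow_succ, pow_two, sq hG ha, one_mul]]
    exact ha

end

/-- The sign extends. -/
theorem exists_sign (hG : Cfsg.IsThreeTranspositionGroup D) {d : G} (hd : d ∈ D)
    (hcls : ∀ a ∈ D, ∀ b ∈ D, ∃ g : G, g * a * g⁻¹ = b)
    (hfar : ∀ a ∈ D, ∀ b ∈ D, ∀ c ∈ D, ∀ e ∈ D, ∀ f ∈ D, ∃ v ∈ D,
      ¬ Commute v a ∧ ¬ Commute v b ∧ ¬ Commute v c ∧ ¬ Commute v e ∧ ¬ Commute v f)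
    (ψ : ↥(Subgroup.centralizer ({d} : Set G)) →* ℤˣ)
    (hψ : ∀ s : ↥(Subgroup.centralizer ({d} : Set G)), (s : G) ∈ D → ψ s = -1) :
    ∃ ε : G →* ℤˣ, ∀ s ∈ D, ε s = -1 := by
  classical
  have memC' : ∀ {g : G}, g * d * g⁻¹ = d → g ∈ (Subgroup.centralizer ({d} : Set G)) := fun {g} h =>
    Subgroup.mem_centralizer_singleton_iff.2 (mul_inv_eq_iff_eq_mul.1 h)
  let val : G → ℤˣ := fun g => if h : g ∈ (Subgroup.centralizer ({d} : Set G)) then ψ ⟨g, h⟩ else 1
  have val_mul : ∀ {g h : G}, g ∈ (Subgroup.centralizer ({d} : Set G)) → h ∈ (Subgroup.centralizer ({d} : Set G)) → val (g * h) = val g * val h := fun {g h} hg hh => by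
    simp only [val, dif_pos hg, dif_pos hh, dif_pos (mul_mem hg hh)]
    exact map_mul ψ ⟨g, hg⟩ ⟨h, hh⟩
  have val_one : val 1 = 1 := by
    simp only [val, dif_pos (one_mem (Subgroup.centralizer ({d} : Set G)))]; exact map_one ψ
  -- a common partner of `d` and each member
  have hw : ∀ y ∈ D, ∃ w ∈ D, ¬ Commute w d ∧ ¬ Commute w y := fun y hy => by
    obtain ⟨v, hv, h1, h2, -⟩ := hfar d hd y hy y hy y hy y hy
    exact ⟨v, hv, h1, h2⟩
  choose! w hwD hwd hwy using hw
  let P : G → G := fun y => cj (w y) y * cj d (w y)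
  have hP : ∀ y ∈ D, P y * d * (P y)⁻¹ = y := fun y hy => by
    have e1 : cj (cj d (w y)) d = w y :=
      line_move hG hd (hwD y hy) (fun e => hwd y hy e.symm)
    have e2 : cj (cj (w y) y) (w y) = y := line_move hG (hwD y hy) hy (hwy y hy)
    simp only [P]
    rw [mul_inv_rev, inv_eq hG (cj_mem hG (hwD y hy) hy), inv_eq hG (cj_mem hG hd (hwD y hy))]
    generalize cj (w y) y = p at e2 ⊢
    generalize cj d (w y) = q at e1 ⊢
    calc p * q * d * (q * p) = p * cj q d * p := by simp only [cj, mul_assoc]
      _ = cj p (w y) := by rw [e1]; rfl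
      _ = y := e2
  have hPd : P d = 1 := by
    simp only [P]
    rw [cj_comm hG hd (hwD d hd) (fun e => hwd d hd e.symm), sq hG (cj_mem hG (hwD d hd) hd)]
  let ε : G → ℤˣ := fun g => val ((P (g * d * g⁻¹))⁻¹ * g)
  have hεC : ∀ g : G, (P (g * d * g⁻¹))⁻¹ * g ∈ (Subgroup.centralizer ({d} : Set G)) := fun g => memC' (by
    have h := hP _ (hG.2.1 g d hd)
    generalize P (g * d * g⁻¹) = p at h ⊢
    calc p⁻¹ * g * d * (p⁻¹ * g)⁻¹ = p⁻¹ * (g * d * g⁻¹) * p := by group
      _ = p⁻¹ * (p * d * p⁻¹) * p := by rw [h]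
      _ = d := by group)
  -- a member of the centralizer has value `-1`, and so does every conjugate triangle
  have val_odd : ∀ {g : G} (hg : g ∈ (Subgroup.centralizer ({d} : Set G))) {n : ℕ}, Odd n → g ^ n ∈ D → val g = -1 := by
    intro g hg n hn hgn
    simp only [val, dif_pos hg]
    have h1 : ψ (⟨g, hg⟩ ^ n) = -1 := hψ (⟨g, hg⟩ ^ n) (by simpa only [SubmonoidClass.coe_pow] using hgn)
    rw [map_pow] at h1
    rcases Int.units_eq_one_or (ψ ⟨g, hg⟩) with e | e
    · rw [e, one_pow] at h1; exact absurd h1 (by decide)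
    · exact e
  -- one step
  have step : ∀ s ∈ D, ∀ g : G, ε (s * g) = -ε g := by
    intro s hs g
    set y := g * d * g⁻¹ with hy
    have hyD : y ∈ D := hG.2.1 g d hd
    have hz : s * g * d * (s * g)⁻¹ = s * y * s⁻¹ := by rw [hy]; group
    set z := s * y * s⁻¹ with hzdef
    have hzD : z ∈ D := hG.2.1 s y hyD
    have hM : (P z)⁻¹ * s * P y ∈ (Subgroup.centralizer ({d} : Set G)) := memC' (by
      have h1 := hP y hyD
      have h2 := hP z hzD
      calc (P z)⁻¹ * s * P y * d * ((P z)⁻¹ * s * P y)⁻¹
          = (P z)⁻¹ * (s * (P y * d * (P y)⁻¹) * s⁻¹) * P z := by group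
        _ = (P z)⁻¹ * (P z * d * (P z)⁻¹) * P z := by rw [h1, h2]
        _ = d := by group)
    have hsplit : (P (s * g * d * (s * g)⁻¹))⁻¹ * (s * g)
        = ((P z)⁻¹ * s * P y) * ((P y)⁻¹ * g) := by rw [hz]; group
    show val _ = -val _
    rw [hsplit, val_mul hM (hεC g), ← neg_one_mul (val _)]
    congr 1
    by_cases hzy : z = y
    · rw [hzy] at hM ⊢
      refine val_odd hM odd_one ?_
      simpa using hG.2.1 (P y)⁻¹ s hs
    -- `s` is the line element of `y, z`
    have hys : ¬ Commute s y := fun e => hzy (by rw [hzdef, e.eq, mul_inv_cancel_right])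
    have hzy' : cj s y = z := by rw [cj_conj hG hs]
    have hsz : cj y z = s := by
      rw [← hzy', cj_comm hG hs hyD hys, cj_cj hG hyD]
    have hyz : ¬ Commute y z := fun e => by
      have h1 : cj y z = z := cj_fix hG hyD e
      rw [hsz] at h1
      have h2 : y = s := by
        rw [← cj_cj hG hs y, hzy', ← h1, cj_self hG hs]
      exact hys (h2 ▸ Commute.refl s)
    obtain ⟨v, hv, hvd, hvw, hvy, hvz, hvw'⟩ :=
      hfar d hd (w y) (hwD y hyD) y hyD z hzD (w z) (hwD z hzD)
    set q := cj v d with hq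
    have hqD : q ∈ D := cj_mem hG hv hd
    have hqv : cj q v = d := line_move hG hv hd hvd
    let F : G → G → G := fun a b => q * (cj b v * cj a b * cj v a) * q
    have hF : ∀ a ∈ D, ∀ b ∈ D, ¬ Commute v a → ¬ Commute v b → ¬ Commute a b →
        F a b ∈ (Subgroup.centralizer ({d} : Set G)) ∧ val (F a b) = -1 := by
      intro a ha b hb hva hvb hab
      obtain ⟨hc, n, hn, hnD⟩ := triangle hG hv ha hb hva hab (fun e => hvb e.symm)
      have hmem : F a b ∈ (Subgroup.centralizer ({d} : Set G)) := by
        refine memC' ?_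
        have hconj : (cj b v * cj a b * cj v a) * v * (cj b v * cj a b * cj v a)⁻¹ = v :=
          mul_inv_eq_iff_eq_mul.2 hc.eq
        have hq2 : q * d * q = v := by
          have h := cj_cj hG hqD v
          rw [hqv] at h
          exact h
        calc F a b * d * (F a b)⁻¹
            = q * ((cj b v * cj a b * cj v a) * (q * d * q⁻¹) *
                (cj b v * cj a b * cj v a)⁻¹) * q⁻¹ := by simp only [F]; group
          _ = d := by
              rw [inv_eq hG hqD, hq2, hconj]
              exact hqv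
      refine ⟨hmem, val_odd hmem hn ?_⟩
      have hconj2 : F a b = q * (cj b v * cj a b * cj v a) * q⁻¹ := by rw [inv_eq hG hqD]
      rw [hconj2, conj_pow]
      exact hG.2.1 q _ hnD
    have hwy' := hwD y hyD
    have hwz' := hwD z hzD
    obtain ⟨m1, v1⟩ := hF d hd (w y) hwy' hvd hvw (fun e => hwd y hyD e.symm)
    obtain ⟨m2, v2⟩ := hF (w y) hwy' y hyD hvw hvy (hwy y hyD)
    obtain ⟨m3, v3⟩ := hF y hyD z hzD hvy hvz hyz
    obtain ⟨m4, v4⟩ := hF z hzD (w z) hwz' hvz hvw' (fun e => hwy z hzD e.symm)
    obtain ⟨m5, v5⟩ := hF (w z) hwz' d hd hvw' hvd (hwd z hzD)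
    have hloop : (P z)⁻¹ * s * P y = F (w z) d * (F z (w z) * (F y z * (F (w y) y * F d (w y)))) := by
      have sx : ∀ {a : G}, a ∈ D → ∀ x : G, a * (a * x) = x := fun ha x => by
        rw [← mul_assoc, sq hG ha, one_mul]
      have c1 : cj d v = q := cj_comm hG hd hv (fun e => hvd e.symm)
      have c2 : ∀ {a : G}, a ∈ D → ¬ Commute v a → cj a v = cj v a := fun ha h =>
        cj_comm hG ha hv (fun e => h e.symm)
      simp only [P, F, mul_inv_rev, inv_eq hG (cj_mem hG hd hwz'), inv_eq hG (cj_mem hG hwz' hzD),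
        c1, c2 hwy' hvw, c2 hyD hvy, c2 hzD hvz, c2 hwz' hvw', hsz, ← hq, mul_assoc, sx hqD,
        sx (cj_mem hG hv hwy'), sx (cj_mem hG hv hyD), sx (cj_mem hG hv hzD),
        sx (cj_mem hG hv hwz'), sq hG hqD, mul_one]
      rw [cj_comm hG hwz' hd (hwd z hzD), cj_comm hG hzD hwz' (fun e => hwy z hzD e.symm)]
    rw [hloop, val_mul m5 (mul_mem m4 (mul_mem m3 (mul_mem m2 m1))),
      val_mul m4 (mul_mem m3 (mul_mem m2 m1)), val_mul m3 (mul_mem m2 m1), val_mul m2 m1,
      v1, v2, v3, v4, v5]
    decide
  have h1 : ε 1 = 1 := by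
    show val _ = 1
    rw [one_mul, inv_one, mul_one, mul_one, hPd, inv_one, val_one]
  have hstep1 : ∀ s ∈ D, ε s = -1 := fun s hs => by
    have := step s hs 1
    rwa [mul_one, h1] at this
  have hmul : ∀ g : G, ∀ h : G, ε (g * h) = ε g * ε h := by
    intro g
    have hg : g ∈ Subgroup.closure D := hG.2.2 ▸ Subgroup.mem_top g
    induction hg using Subgroup.closure_induction_left with
    | one => intro h; rw [one_mul, h1, one_mul]
    | mul_left s hs g hg ih =>
      intro h
      rw [mul_assoc, step s hs, step s hs, ih, neg_mul]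
    | inv_mul_cancel s hs g hg ih =>
      intro h
      rw [inv_eq hG hs, mul_assoc, step s hs, step s hs, ih, neg_mul]
  exact ⟨⟨⟨ε, h1⟩, hmul⟩, hstep1⟩

end CfsgLib.ThreeTransp.TypeTwentyFour
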