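import Cfsg.Agent.Lib.ThreeTransp.TypeTwentyFour.Derived
import Cfsg.Prelude.Def_SporadicB

/-!
# The class of transpositions of a group of type M(24) is the only one

A class of products of three commuting members would give a second class in the neighbourhood
quotient of one of the three.
-/

universe u

set_option autoImplicit false
set_option linter.unusedSectionVars false
set_option linter.style.haveILetI false

namespace CfsgLib.ThreeTransp.TypeTwentyFour

open CfsgLib.Sporadic FischerTransitivity Relation Indep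

/-- The transpositions of Fi23 form the only generating class of 3-transpositions. -/
def UniqueTwentyThree : Prop :=
  ∀ (H : Type u) [Group H] [Finite H] (E : Set H), FiTransfer23.ModelIso H E →
    ∀ E' : Set H, Cfsg.IsThreeTranspositionClass E' → E' = E

variable {G : Type u} [Group G] [Finite G] {D : Set G}

/-- A product of three commuting members lies in no class of 3-transpositions. -/
theorem Data.no_triple_class (T : Data D) (hI : Indep.Ind D 6) (huniq : UniqueTwentyThree.{u})
    {a b c : G} (ha : a ∈ D) (hb : b ∈ Nb D a) (hc : c ∈ Nb D a) (hbc : b ≠ c)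
    (cbc : Commute b c) {D' : Set G} (hD' : Cfsg.IsThreeTranspositionSet D')
    (hcls : ∀ g : G, g * (a * b * c) * g⁻¹ ∈ D') : False := by
  have hG := T.good.grp
  haveI := Model.simple (T.model a ha)
  have hmem : ∀ {y : G}, y ∈ Nb D a → y ∈ NH D a := fun h => Subgroup.subset_closure h
  have haH := mem_closure T.toSetting ha
  have hxH : a * b * c ∈ NH D a := mul_mem (mul_mem haH (hmem hb)) (hmem hc)
  set q := nimg hb * nimg hc with hq
  have hmk : (QuotientGroup.mk (⟨a * b * c, hxH⟩ : ↥(NH D a)) : NQ D a) = q := by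
    have h1 : (QuotientGroup.mk (⟨a, haH⟩ : ↥(NH D a)) : NQ D a) = 1 :=
      (QuotientGroup.eq_one_iff _).2 (Subgroup.mem_center_iff.2 fun k =>
        Subtype.ext (Good.commute_closure k.2).eq)
    rw [show (⟨a * b * c, hxH⟩ : ↥(NH D a)) = ⟨a, haH⟩ * ⟨b, hmem hb⟩ * ⟨c, hmem hc⟩ from rfl,
      QuotientGroup.mk_mul, QuotientGroup.mk_mul, h1, one_mul]
    rfl
  have hq2 : q ^ 2 = 1 := by
    rw [pow_two, hq, ← mul_assoc, mul_assoc (nimg hb) (nimg hc) (nimg hb),
      ← ((nimg_commute_iff hG hb hc).2 cbc).eq, ← mul_assoc, nimg_sq hG hb, one_mul, nimg_sq hG hc]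
  have hqne : q ≠ 1 := fun e => hbc (nimg_inj T.toSetting ha hb hc
    ((eq_inv_of_mul_eq_one_left e).trans (inv_eq_of_mul_eq_one_right (nimg_sq hG hc))))
  have hclass : Cfsg.IsThreeTranspositionClass (conjugatesOf q) := by
    refine ⟨⟨fun r hr => ?_, fun r hr s hs => ?_⟩, ⟨q, mem_conjugatesOf_self, rfl⟩, ?_⟩
    · obtain ⟨k, rfl⟩ := isConj_iff.1 hr
      haveI := Fact.mk Nat.prime_two
      refine orderOf_eq_prime (by rw [conj_pow, hq2, mul_one, mul_inv_cancel]) fun e => hqne ?_
      exact conj_eq_one_iff.1 e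
    · obtain ⟨k, rfl⟩ := isConj_iff.1 hr
      obtain ⟨k', rfl⟩ := isConj_iff.1 hs
      obtain ⟨w, rfl⟩ := QuotientGroup.mk_surjective k
      obtain ⟨w', rfl⟩ := QuotientGroup.mk_surjective k'
      rw [← hmk, ← QuotientGroup.mk_inv, ← QuotientGroup.mk_inv, ← QuotientGroup.mk_mul,
        ← QuotientGroup.mk_mul, ← QuotientGroup.mk_mul, ← QuotientGroup.mk_mul,
        ← QuotientGroup.mk_mul, ← QuotientGroup.mk_pow, ← QuotientGroup.mk_pow]
      rcases hD'.2 _ (hcls (w : G)) _ (hcls (w' : G)) with h | h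
      · left
        rw [← QuotientGroup.mk_one]
        exact congrArg QuotientGroup.mk (Subtype.ext h)
      · right
        rw [← QuotientGroup.mk_one]
        exact congrArg QuotientGroup.mk (Subtype.ext h)
    · have heq : Subgroup.closure (conjugatesOf q) = Subgroup.normalClosure {q} := by
        simp [Subgroup.normalClosure, Group.conjugatesOfSet]
      have hn : (Subgroup.closure (conjugatesOf q)).Normal := heq ▸ Subgroup.normalClosure_normal
      refine hn.eq_bot_or_eq_top.resolve_left fun h => hqne ?_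
      rw [← Subgroup.mem_bot, ← h]
      exact Subgroup.subset_closure mem_conjugatesOf_self
  have hqE : q ∈ ND D a := huniq _ _ (T.model a ha) _ hclass ▸ mem_conjugatesOf_self
  obtain ⟨e, he, heq⟩ := exists_nimg hqE
  have hcen : Cen D a (e⁻¹ * (b * c)) := (mk_eq_one_iff ((⟨e, hmem he⟩ : ↥(NH D a))⁻¹ *
    (⟨b, hmem hb⟩ * ⟨c, hmem hc⟩))).1 (by
      rw [QuotientGroup.mk_mul, QuotientGroup.mk_inv, QuotientGroup.mk_mul]
      exact inv_mul_eq_one.2 heq)
  have hcomm : Commute (e⁻¹ * (b * c)) a :=
    (he.2.2.symm.inv_left).mul_left (hb.2.2.symm.mul_left hc.2.2.symm)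
  rcases cen_mem T.toSetting ha hb hcomm hcen with h | h
  · obtain ⟨ε, hε⟩ := T.exists_eps
    have := congrArg ε h
    rw [map_mul, map_inv, map_mul, hε e he.1, hε b hb.1, hε c hc.1, map_one] at this
    exact absurd this (by decide)
  · have h2 : b * c = a * e := by
      rw [he.2.2.eq]
      exact inv_mul_eq_iff_eq_mul.1 h
    rcases factor_two T hI ha he hb.1 ⟨hc.1, hbc.symm, cbc⟩ h2 with ⟨h3, -⟩ | ⟨-, h3⟩
    · exact hb.2.1 h3
    · exact hc.2.1 h3

/-- The class is the only one. -/
theorem Data.class_unique (T : Data D) (hI : Indep.Ind D 6) (huniq : UniqueTwentyThree.{u})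
    (hinv : ∀ x : G, orderOf x = 2 → ∃ m, 1 ≤ m ∧ m ≤ 4 ∧ ∃ l : List G, l.Nodup ∧ l.length = m ∧
      (∀ a ∈ l, a ∈ D) ∧ (∀ a ∈ l, ∀ b ∈ l, Commute a b) ∧ l.prod = x)
    (D' : Set G) (hD' : Cfsg.IsThreeTranspositionClass D') : D' = D := by
  have hG := T.good.grp
  obtain ⟨ε, hε⟩ := T.exists_eps
  obtain ⟨hset, ⟨x, hx, rfl⟩, hgen⟩ := hD'
  have hodd : ε x = -1 := by
    rcases Int.units_eq_one_or (ε x) with h | h
    swap
    · exact h
    exfalso
    have hle : Subgroup.closure (conjugatesOf x) ≤ ε.ker := (Subgroup.closure_le _).2 fun y hy => by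
      obtain ⟨k, rfl⟩ := isConj_iff.1 hy
      show ε (k * x * k⁻¹) = 1
      rw [map_mul, map_mul, h, mul_one, map_inv, mul_inv_cancel]
    obtain ⟨d, hd, -⟩ := T.good.two
    have := hle (hgen ▸ Subgroup.mem_top d)
    rw [MonoidHom.mem_ker, hε d hd] at this
    exact absurd this (by decide)
  obtain ⟨m, hm1, hm4, l, hnd, hlen, hmem, hc, rfl⟩ := hinv x (hset.1 x hx)
  match l, hlen with
  | [], h => simp at h; omega
  | [a], _ =>
    simp only [List.prod_cons, List.prod_nil, mul_one]
    have ha : a ∈ D := hmem a List.mem_cons_self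
    refine Set.Subset.antisymm (fun y hy => ?_) fun y hy => ?_
    · obtain ⟨k, rfl⟩ := isConj_iff.1 hy
      exact hG.2.1 k a ha
    · exact isConj_iff.2 (T.good.cls a ha y hy)
  | [a, b], _ =>
    simp only [List.prod_cons, List.prod_nil, mul_one, map_mul] at hodd
    rw [hε a (hmem a (by simp)), hε b (hmem b (by simp))] at hodd
    exact absurd hodd (by decide)
  | [a, b, c], _ =>
    exfalso
    simp only [List.nodup_cons, List.mem_cons, List.not_mem_nil, or_false, not_or] at hnd
    refine T.no_triple_class hI huniq (a := a) (b := b) (c := c) (hmem a (by simp))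
      ⟨hmem b (by simp), fun e => hnd.1.1 e.symm, hc a (by simp) b (by simp)⟩
      ⟨hmem c (by simp), fun e => hnd.1.2 e.symm, hc a (by simp) c (by simp)⟩ hnd.2.1
      (hc b (by simp) c (by simp)) hset fun g => ?_
    refine isConj_iff.2 ⟨g, ?_⟩
    simp [mul_assoc]
  | [a, b, c, e], _ =>
    simp only [List.prod_cons, List.prod_nil, mul_one, map_mul] at hodd
    rw [hε a (hmem a (by simp)), hε b (hmem b (by simp)), hε c (hmem c (by simp)),
      hε e (hmem e (by simp))] at hodd
    exact absurd hodd (by decide)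
  | _ :: _ :: _ :: _ :: _ :: _, h => simp at h; omega

end CfsgLib.ThreeTransp.TypeTwentyFour
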